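import Groth.Agent.ShStab.K847.HilbBasic

/-!
# First consequences for (semi)stability (namespace `K847.StabBasic`)

Sub/quotient bookkeeping for Hilbert polynomials, purity from the cross-multiplied inequality, Gieseker
(semi)stability against `d`-(semi)stability.
-/

set_option autoImplicit false
universe u
open CategoryTheory CategoryTheory.Limits AlgebraicGeometry Polynomial

namespace K847.StabBasic

open Groth.Agent K847.PolyOrd K847.HilbBasic StabCat ShStab

variable (k : Type u) [Field k] {X : Scheme.{u}} [X.Over (Spec (CommRingCat.of k))]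

/-- The cokernel sequence of a monomorphism is short exact. -/
theorem shortExact_cokernel {X : Scheme.{u}} {F E : X.Modules} (ι : F ⟶ E) [Mono ι] :
    (ShortComplex.mk ι (cokernel.π ι) (cokernel.condition ι)).ShortExact :=
  { exact := ShortComplex.exact_cokernel ι
    mono_f := ‹Mono ι›
    epi_g := inferInstanceAs (Epi (cokernel.π ι)) }

/-- The kernel sequence of an epimorphism is short exact. -/
theorem shortExact_kernel {X : Scheme.{u}} {E G : X.Modules} (π : E ⟶ G) [Epi π] :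
    (ShortComplex.mk (kernel.ι π) π (kernel.condition π)).ShortExact :=
  { exact := ShortComplex.exact_kernel π
    mono_f := inferInstanceAs (Mono (kernel.ι π))
    epi_g := ‹Epi π› }

theorem isZero_cokernel_iff {X : Scheme.{u}} {F E : X.Modules} (ι : F ⟶ E) [Mono ι] :
    IsZero (cokernel ι) ↔ IsIso ι := by
  constructor
  · intro h
    have : Epi ι := Abelian.epi_of_cokernel_π_eq_zero ι (h.eq_of_tgt _ _)
    exact isIso_of_mono_of_epi ι
  · intro h
    exact isZero_cokernel_of_epi ι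

theorem isIso_hilbPoly_eq {L F E : X.Modules} (ι : F ⟶ E) [IsIso ι] {pF pE : ℚ[X]}
    (hF : IsHilbPoly k X L F pF) (hE : IsHilbPoly k X L E pE) : pF = pE :=
  hilbPoly_unique k (isHilbPoly_iso k (asIso ι) hF) hE

variable [IsProper (X ↘ Spec (CommRingCat.of k))]

set_option linter.unusedSectionVars false in
include k in
theorem isCoh_cokernel' {F E : X.Modules} (ι : F ⟶ E) (hF : Coh.IsCoh F) (hE : Coh.IsCoh E) :
    Coh.IsCoh (cokernel ι) := Sga67.CohBasic.isCoh_cokernel ι hF.1 hE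

include k in
theorem isCoh_kernel' {F E : X.Modules} (ι : F ⟶ E) (hF : Coh.IsCoh F) (hE : Coh.IsCoh E) :
    Coh.IsCoh (kernel ι) := by
  have := Fga.IntAdd.isNoetherian k X
  exact Sga67.CohBasic.isCoh_kernel ι hF hE.1

/-- The Hilbert polynomial of the quotient by a coherent submodule. -/
theorem exists_hilbPoly_cokernel {L F E : X.Modules} (hL : PicF.IsInvertible L) (ι : F ⟶ E) [Mono ι]
    (hF : Coh.IsCoh F) (hE : Coh.IsCoh E) {pF pE : ℚ[X]} (hpF : IsHilbPoly k X L F pF)
    (hpE : IsHilbPoly k X L E pE) :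
    ∃ pQ : ℚ[X], IsHilbPoly k X L (cokernel ι) pQ ∧ pE = pF + pQ := by
  have hQ := isCoh_cokernel' k ι hF hE
  obtain ⟨pQ, hpQ⟩ := exists_hilbPoly k hL hQ
  exact ⟨pQ, hpQ, hilbPoly_add k hL _ (shortExact_cokernel ι) hF hE hQ hpF hpE hpQ⟩

/-- A submodule has smaller Hilbert polynomial. -/
theorem polyLE_of_mono {L F E : X.Modules} (hL : CohB1.IsAmple L) (ι : F ⟶ E) [Mono ι]
    (hF : Coh.IsCoh F) (hE : Coh.IsCoh E) {pF pE : ℚ[X]} (hpF : IsHilbPoly k X L F pF)
    (hpE : IsHilbPoly k X L E pE) : PolyLE pF pE := by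
  obtain ⟨pQ, hpQ, h⟩ := exists_hilbPoly_cokernel k hL.1 ι hF hE hpF hpE
  have h1 := polyLE_zero k hL (isCoh_cokernel' k ι hF hE) hpQ
  rw [polyLE_iff] at h1 ⊢
  rwa [h, add_sub_cancel_left, ← sub_zero pQ]

/-- A proper submodule has strictly smaller Hilbert polynomial. -/
theorem polyLT_of_mono {L F E : X.Modules} (hL : CohB1.IsAmple L) (ι : F ⟶ E) [Mono ι]
    (hF : Coh.IsCoh F) (hE : Coh.IsCoh E) (hι : ¬ IsIso ι) {pF pE : ℚ[X]} (hpF : IsHilbPoly k X L F pF)
    (hpE : IsHilbPoly k X L E pE) : PolyLT pF pE := by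
  obtain ⟨pQ, hpQ, h⟩ := exists_hilbPoly_cokernel k hL.1 ι hF hE hpF hpE
  have h1 := polyLT_zero k hL (isCoh_cokernel' k ι hF hE) (fun h => hι ((isZero_cokernel_iff ι).mp h)) hpQ
  rw [polyLT_iff] at h1 ⊢
  rwa [h, add_sub_cancel_left, ← sub_zero pQ]

/-- A submodule with the same Hilbert polynomial is everything. -/
theorem isIso_of_hilbPoly_eq {L F E : X.Modules} (hL : CohB1.IsAmple L) (ι : F ⟶ E) [Mono ι]
    (hF : Coh.IsCoh F) (hE : Coh.IsCoh E) {p : ℚ[X]} (hpF : IsHilbPoly k X L F p)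
    (hpE : IsHilbPoly k X L E p) : IsIso ι := by
  by_contra h
  exact polyLT_irrefl _ (polyLT_of_mono k hL ι hF hE h hpF hpE)

theorem dim_support_le_of_mono {X : Scheme.{u}} {F E : X.Modules} (ι : F ⟶ E) [Mono ι] :
    topologicalKrullDim (CohB1.support F) ≤ topologicalKrullDim (CohB1.support E) :=
  Fga.DimLt.topologicalKrullDim_mono (CohqB.DevSupport.support_subset_of_mono ι)

theorem dim_support_le_of_epi {X : Scheme.{u}} {F E : X.Modules} (π : F ⟶ E) [Epi π] :
    topologicalKrullDim (CohB1.support E) ≤ topologicalKrullDim (CohB1.support F) :=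
  Fga.DimLt.topologicalKrullDim_mono (CohqB.DevSupport.support_subset_of_epi π)

theorem dim_support_iso {X : Scheme.{u}} {F E : X.Modules} (e : F ≅ E) :
    topologicalKrullDim (CohB1.support F) = topologicalKrullDim (CohB1.support E) := by
  rw [CohqB.DevSupport.support_congr e]

/-- Purity passes to submodules. -/
theorem isPure_of_mono {X : Scheme.{u}} {F E : X.Modules} {d : ℕ} (ι : F ⟶ E) [Mono ι] (hE : IsPure X E d) :
    IsPure X F d := fun G κ hκ hG h0 => hE G (κ ≫ ι) (mono_comp κ ι) hG h0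

theorem isPure_iso {X : Scheme.{u}} {F E : X.Modules} {d : ℕ} (e : F ≅ E) (hF : IsPure X F d) :
    IsPure X E d := isPure_of_mono e.inv hF

theorem dim_support_eq_of_isPure {X : Scheme.{u}} {E : X.Modules} {d : ℕ} (hE : Coh.IsCoh E) (h0 : ¬ IsZero E)
    (hp : IsPure X E d) : topologicalKrullDim (CohB1.support E) = (d : WithBot ℕ∞) :=
  hp E (𝟙 E) inferInstance hE h0

/-- Purity follows from the cross-multiplied inequality. -/
theorem isPure_of_isSS {L E : X.Modules} (hL : CohB1.IsAmple L) {d : ℕ} (hE : Coh.IsCoh E)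
    (hdim : topologicalKrullDim (CohB1.support E) = (d : WithBot ℕ∞))
    (h : IsSS Coh.IsCoh (IsHilbPoly k X L) d E) : IsPure X E d := by
  intro F ι hι hF h0
  have hle := dim_support_le_of_mono ι
  rw [hdim] at hle
  by_contra hne
  have hlt := lt_of_le_of_ne hle hne
  obtain ⟨pF, hpF⟩ := exists_hilbPoly k hL.1 hF
  obtain ⟨pE, hpE⟩ := exists_hilbPoly k hL.1 hE
  have hiso : ¬ IsIso ι := fun hi => hne ((dim_support_iso (asIso ι)).trans hdim)
  have h1 := h F ι hι hF h0 hiso pF pE hpF hpE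
  rw [redLE_iff, (alpha_eq_zero_iff k hL hF hle hpF).mpr hlt, zero_smul, zero_sub, leadingCoeff_neg,
    smul_eq_C_mul, leadingCoeff_mul, leadingCoeff_C] at h1
  have h2 := alpha_pos k hL hE hdim hpE
  have h3 := leadingCoeff_pos k hL hF h0 hpF
  have := mul_pos h2 h3
  linarith

omit [IsProper (X ↘ Spec (CommRingCat.of k))] in
theorem isSS_of_isSt {L E : X.Modules} {d : ℕ} (h : IsSt Coh.IsCoh (IsHilbPoly k X L) d E) :
    IsSS Coh.IsCoh (IsHilbPoly k X L) d E :=
  fun F ι hι hF h0 hi pF pE hpF hpE => redLE_of_redLT (h F ι hι hF h0 hi pF pE hpF hpE)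

omit [IsProper (X ↘ Spec (CommRingCat.of k))] in
theorem isSemistable_of_isStable {L E : X.Modules} {d : ℕ} (h : IsStable k X L E d) : IsSemistable k X L E d :=
  ⟨h.1, h.2.1, h.2.2.1, isSS_of_isSt k h.2.2.2⟩

/-- For pure `E`, testing submodules with multiplicity strictly between `0` and that of `E` is enough. -/
theorem isSS_iff_isEllSS {L E : X.Modules} (hL : CohB1.IsAmple L) {d ℓ : ℕ} (hℓ : d ≤ ℓ) (hE : Coh.IsCoh E)
    (hp : IsPure X E d) :
    IsSS Coh.IsCoh (IsHilbPoly k X L) d E ↔ IsEllSS Coh.IsCoh (IsHilbPoly k X L) d ℓ E := by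
  constructor
  · intro h F ι hι hF pF pE hpF hpE h1 h2
    have h0 : ¬ IsZero F := fun hz => by
      rw [hilbPoly_eq_zero k hz hpF, alpha_zero] at h1; exact lt_irrefl _ h1
    have hiso : ¬ IsIso ι := fun hi => by
      rw [isIso_hilbPoly_eq k ι hpF hpE] at h2; exact lt_irrefl _ h2
    have h0E : ¬ IsZero E := fun hz => h0 (IsZero.of_mono ι hz)
    rw [topPart_eq hℓ (natDegree_le k hL.1 hF (hp F ι hι hF h0).le hpF),
      topPart_eq hℓ (natDegree_le k hL.1 hE (dim_support_eq_of_isPure hE h0E hp).le hpE)]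
    exact h F ι hι hF h0 hiso pF pE hpF hpE
  · intro h F ι hι hF h0 hiso pF pE hpF hpE
    have h0E : ¬ IsZero E := fun hz => h0 (IsZero.of_mono ι hz)
    have hdE := dim_support_eq_of_isPure hE h0E hp
    have hdF := hp F ι hι hF h0
    obtain ⟨pQ, hpQ, hadd⟩ := exists_hilbPoly_cokernel k hL.1 ι hF hE hpF hpE
    have hQ := isCoh_cokernel' k ι hF hE
    have hdQ : topologicalKrullDim (CohB1.support (cokernel ι)) ≤ (d : WithBot ℕ∞) :=
      (dim_support_le_of_epi (cokernel.π ι)).trans hdE.le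
    have haQ := alpha_nonneg k hL hQ hdQ hpQ
    have haF := alpha_pos k hL hF hdF hpF
    have haE : alpha d pE = alpha d pF + alpha d pQ := by rw [hadd, alpha_add]
    rcases haQ.eq_or_lt with h1 | h1
    · rw [redLE_iff_of_alpha_eq (by rw [haE, ← h1, add_zero]) haF]
      exact polyLE_of_mono k hL ι hF hE hpF hpE
    · have h2 := h F ι hι hF pF pE hpF hpE haF (by rw [haE]; linarith)
      rwa [topPart_eq hℓ (natDegree_le k hL.1 hF hdF.le hpF),
        topPart_eq hℓ (natDegree_le k hL.1 hE hdE.le hpE)] at h2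

theorem isSt_iff_isEllSt {L E : X.Modules} (hL : CohB1.IsAmple L) {d ℓ : ℕ} (hℓ : d ≤ ℓ) (hE : Coh.IsCoh E)
    (hp : IsPure X E d) :
    IsSt Coh.IsCoh (IsHilbPoly k X L) d E ↔ IsEllSt Coh.IsCoh (IsHilbPoly k X L) d ℓ E := by
  constructor
  · intro h F ι hι hF pF pE hpF hpE h1 h2
    have h0 : ¬ IsZero F := fun hz => by
      rw [hilbPoly_eq_zero k hz hpF, alpha_zero] at h1; exact lt_irrefl _ h1
    have hiso : ¬ IsIso ι := fun hi => by
      rw [isIso_hilbPoly_eq k ι hpF hpE] at h2; exact lt_irrefl _ h2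
    have h0E : ¬ IsZero E := fun hz => h0 (IsZero.of_mono ι hz)
    rw [topPart_eq hℓ (natDegree_le k hL.1 hF (hp F ι hι hF h0).le hpF),
      topPart_eq hℓ (natDegree_le k hL.1 hE (dim_support_eq_of_isPure hE h0E hp).le hpE)]
    exact h F ι hι hF h0 hiso pF pE hpF hpE
  · intro h F ι hι hF h0 hiso pF pE hpF hpE
    have h0E : ¬ IsZero E := fun hz => h0 (IsZero.of_mono ι hz)
    have hdE := dim_support_eq_of_isPure hE h0E hp
    have hdF := hp F ι hι hF h0
    obtain ⟨pQ, hpQ, hadd⟩ := exists_hilbPoly_cokernel k hL.1 ι hF hE hpF hpE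
    have hQ := isCoh_cokernel' k ι hF hE
    have hdQ : topologicalKrullDim (CohB1.support (cokernel ι)) ≤ (d : WithBot ℕ∞) :=
      (dim_support_le_of_epi (cokernel.π ι)).trans hdE.le
    have haQ := alpha_nonneg k hL hQ hdQ hpQ
    have haF := alpha_pos k hL hF hdF hpF
    have haE : alpha d pE = alpha d pF + alpha d pQ := by rw [hadd, alpha_add]
    rcases haQ.eq_or_lt with h1 | h1
    · rw [redLT_iff_of_alpha_eq (by rw [haE, ← h1, add_zero]) haF]
      exact polyLT_of_mono k hL ι hF hE hiso hpF hpE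
    · have h2 := h F ι hι hF pF pE hpF hpE haF (by rw [haE]; linarith)
      rwa [topPart_eq hℓ (natDegree_le k hL.1 hF hdF.le hpF),
        topPart_eq hℓ (natDegree_le k hL.1 hE hdE.le hpE)] at h2

end K847.StabBasic
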