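import Groth.Prelude.Def_StabCat
import Mathlib.Analysis.Polynomial.Basic
import Mathlib.Algebra.Polynomial.Roots
import Mathlib.Analysis.Normed.Field.Lemmas
import Mathlib.Topology.Instances.Rat
import Mathlib.Tactic

/-!
# The eventual order on rational polynomials (namespace `K847.PolyOrd`)

`StabCat.PolyLE`/`PolyLT` through leading coefficients, and the formal properties of the reduced comparisons
`RedLE`, `RedLT`, `RedEq`: order properties, the seesaw in sums, compatibility with positive scalars.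
-/

set_option autoImplicit false

open Polynomial StabCat

namespace K847.PolyOrd

theorem eq_of_eval_nat {P Q : ℚ[X]} (h : ∀ m : ℕ, P.eval (m : ℚ) = Q.eval (m : ℚ)) : P = Q :=
  Polynomial.eq_of_infinite_eval_eq P Q
    (Set.infinite_of_injective_forall_mem (f := fun m : ℕ => (m : ℚ)) Nat.cast_injective h)

theorem eq_of_eval_large {P Q : ℚ[X]} (N : ℕ) (h : ∀ m : ℕ, N ≤ m → P.eval (m : ℚ) = Q.eval (m : ℚ)) :
    P = Q :=
  Polynomial.eq_of_infinite_eval_eq P Q
    (Set.infinite_of_injective_forall_mem (f := fun m : ℕ => ((m + N : ℕ) : ℚ))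
      (fun a b hab => by simpa using hab) fun m => h _ (Nat.le_add_left _ _))

/-- A polynomial with positive leading coefficient is eventually positive. -/
theorem exists_forall_pos {P : ℚ[X]} (h : 0 < P.leadingCoeff) :
    ∃ N : ℕ, ∀ m : ℕ, N ≤ m → 0 < P.eval (m : ℚ) := by
  rcases Nat.eq_zero_or_pos P.natDegree with h0 | h0
  · rw [natDegree_eq_zero] at h0
    obtain ⟨c, rfl⟩ := h0
    rw [leadingCoeff_C] at h
    exact ⟨0, fun m _ => by rw [eval_C]; exact h⟩
  · have hd : 0 < P.degree := natDegree_pos_iff_degree_pos.mp h0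
    have ht := P.tendsto_atTop_of_leadingCoeff_nonneg hd h.le
    have h1 := (ht.comp (tendsto_natCast_atTop_atTop (R := ℚ))).eventually (Filter.eventually_gt_atTop 0)
    exact Filter.eventually_atTop.mp h1

theorem leadingCoeff_pos_of_forall {P : ℚ[X]} (N : ℕ) (h : ∀ m : ℕ, N ≤ m → 0 < P.eval (m : ℚ)) :
    0 < P.leadingCoeff := by
  rcases lt_trichotomy P.leadingCoeff 0 with h0 | h0 | h0
  · have : 0 < (-P).leadingCoeff := by rw [leadingCoeff_neg]; linarith
    obtain ⟨N', hN'⟩ := exists_forall_pos this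
    have h1 := h (max N N') (le_max_left _ _)
    have h2 := hN' (max N N') (le_max_right _ _)
    rw [eval_neg] at h2
    linarith
  · rw [leadingCoeff_eq_zero] at h0
    have := h N le_rfl
    rw [h0, eval_zero] at this
    exact absurd this (lt_irrefl _)
  · exact h0

theorem polyLT_iff {P Q : ℚ[X]} : PolyLT P Q ↔ 0 < (Q - P).leadingCoeff := by
  constructor
  · rintro ⟨N, hN⟩
    exact leadingCoeff_pos_of_forall N fun m hm => by rw [eval_sub]; linarith [hN m hm]
  · intro h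
    obtain ⟨N, hN⟩ := exists_forall_pos h
    exact ⟨N, fun m hm => by have := hN m hm; rw [eval_sub] at this; linarith⟩

theorem polyLE_of_polyLT {P Q : ℚ[X]} (h : PolyLT P Q) : PolyLE P Q := by
  obtain ⟨N, hN⟩ := h
  exact ⟨N, fun m hm => (hN m hm).le⟩

theorem polyLE_refl (P : ℚ[X]) : PolyLE P P := ⟨0, fun _ _ => le_rfl⟩

theorem polyLE_trans {P Q R : ℚ[X]} (h : PolyLE P Q) (h' : PolyLE Q R) : PolyLE P R := by
  obtain ⟨N, hN⟩ := h
  obtain ⟨N', hN'⟩ := h'
  exact ⟨max N N', fun m hm => (hN m ((le_max_left _ _).trans hm)).trans (hN' m ((le_max_right _ _).trans hm))⟩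

theorem polyLT_of_polyLE_of_polyLT {P Q R : ℚ[X]} (h : PolyLE P Q) (h' : PolyLT Q R) : PolyLT P R := by
  obtain ⟨N, hN⟩ := h
  obtain ⟨N', hN'⟩ := h'
  exact ⟨max N N', fun m hm => (hN m ((le_max_left _ _).trans hm)).trans_lt (hN' m ((le_max_right _ _).trans hm))⟩

theorem polyLT_of_polyLT_of_polyLE {P Q R : ℚ[X]} (h : PolyLT P Q) (h' : PolyLE Q R) : PolyLT P R := by
  obtain ⟨N, hN⟩ := h
  obtain ⟨N', hN'⟩ := h'
  exact ⟨max N N', fun m hm => (hN m ((le_max_left _ _).trans hm)).trans_le (hN' m ((le_max_right _ _).trans hm))⟩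

theorem polyLT_trans {P Q R : ℚ[X]} (h : PolyLT P Q) (h' : PolyLT Q R) : PolyLT P R :=
  polyLT_of_polyLT_of_polyLE h (polyLE_of_polyLT h')

theorem polyLT_irrefl (P : ℚ[X]) : ¬ PolyLT P P := by
  rintro ⟨N, hN⟩
  exact lt_irrefl _ (hN N le_rfl)

/-- Two polynomials are always comparable. -/
theorem polyLT_or_eq_or_gt (P Q : ℚ[X]) : PolyLT P Q ∨ P = Q ∨ PolyLT Q P := by
  rcases lt_trichotomy (Q - P).leadingCoeff 0 with h | h | h
  · refine Or.inr (Or.inr (polyLT_iff.mpr ?_))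
    rw [← neg_sub, leadingCoeff_neg]
    linarith
  · rw [leadingCoeff_eq_zero, sub_eq_zero] at h
    exact Or.inr (Or.inl h.symm)
  · exact Or.inl (polyLT_iff.mpr h)

theorem polyLE_iff_lt_or_eq {P Q : ℚ[X]} : PolyLE P Q ↔ PolyLT P Q ∨ P = Q := by
  constructor
  · intro h
    rcases polyLT_or_eq_or_gt P Q with h1 | h1 | h1
    · exact Or.inl h1
    · exact Or.inr h1
    · exact absurd (polyLT_of_polyLT_of_polyLE h1 h) (polyLT_irrefl _)
  · rintro (h | rfl)
    · exact polyLE_of_polyLT h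
    · exact polyLE_refl _

theorem polyLE_iff {P Q : ℚ[X]} : PolyLE P Q ↔ 0 ≤ (Q - P).leadingCoeff := by
  rw [polyLE_iff_lt_or_eq, polyLT_iff, le_iff_lt_or_eq]
  refine or_congr Iff.rfl ?_
  rw [eq_comm (a := (0 : ℚ)), leadingCoeff_eq_zero, sub_eq_zero, eq_comm]

theorem not_polyLT {P Q : ℚ[X]} : ¬ PolyLT P Q ↔ PolyLE Q P := by
  constructor
  · intro h
    rcases polyLT_or_eq_or_gt P Q with h1 | h1 | h1
    · exact absurd h1 h
    · exact h1 ▸ polyLE_refl _
    · exact polyLE_of_polyLT h1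
  · intro h h1
    exact polyLT_irrefl _ (polyLT_of_polyLT_of_polyLE h1 h)

theorem not_polyLE {P Q : ℚ[X]} : ¬ PolyLE P Q ↔ PolyLT Q P := by
  rw [← not_polyLT, not_not]

theorem polyLE_antisymm {P Q : ℚ[X]} (h : PolyLE P Q) (h' : PolyLE Q P) : P = Q := by
  rcases polyLE_iff_lt_or_eq.mp h with h1 | h1
  · exact absurd h' (not_polyLE.mpr h1)
  · exact h1

theorem polyLE_total (P Q : ℚ[X]) : PolyLE P Q ∨ PolyLE Q P := by
  rcases polyLT_or_eq_or_gt P Q with h1 | h1 | h1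
  · exact Or.inl (polyLE_of_polyLT h1)
  · exact Or.inl (h1 ▸ polyLE_refl _)
  · exact Or.inr (polyLE_of_polyLT h1)

theorem polyLE_smul_iff {c : ℚ} (hc : 0 < c) {P Q : ℚ[X]} : PolyLE (c • P) (c • Q) ↔ PolyLE P Q := by
  unfold PolyLE
  simp only [eval_smul, smul_eq_mul, mul_le_mul_iff_right₀ hc]

theorem polyLT_smul_iff {c : ℚ} (hc : 0 < c) {P Q : ℚ[X]} : PolyLT (c • P) (c • Q) ↔ PolyLT P Q := by
  unfold PolyLT
  simp only [eval_smul, smul_eq_mul, mul_lt_mul_iff_right₀ hc]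

theorem polyLE_add_left_iff {P Q R : ℚ[X]} : PolyLE (R + P) (R + Q) ↔ PolyLE P Q := by
  unfold PolyLE
  simp only [eval_add, add_le_add_iff_left]

theorem polyLT_add_left_iff {P Q R : ℚ[X]} : PolyLT (R + P) (R + Q) ↔ PolyLT P Q := by
  unfold PolyLT
  simp only [eval_add, add_lt_add_iff_left]

theorem polyLE_congr {P Q P' Q' : ℚ[X]} (h : Q - P = Q' - P') : PolyLE P Q ↔ PolyLE P' Q' := by
  rw [polyLE_iff, polyLE_iff, h]

theorem polyLT_congr {P Q P' Q' : ℚ[X]} (h : Q - P = Q' - P') : PolyLT P Q ↔ PolyLT P' Q' := by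
  rw [polyLT_iff, polyLT_iff, h]

theorem coeff_nonneg_of_leadingCoeff_nonneg {P : ℚ[X]} {d : ℕ} (hd : P.natDegree ≤ d)
    (h : 0 ≤ P.leadingCoeff) : 0 ≤ P.coeff d := by
  rcases hd.eq_or_lt with h1 | h1
  · rw [← h1]; exact h
  · rw [coeff_eq_zero_of_natDegree_lt h1]

theorem leadingCoeff_pos_of_coeff_pos {P : ℚ[X]} {d : ℕ} (hd : P.natDegree ≤ d)
    (h : 0 < P.coeff d) : 0 < P.leadingCoeff := by
  have : P.natDegree = d := le_antisymm hd (le_natDegree_of_ne_zero h.ne')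
  rw [leadingCoeff, this]
  exact h

theorem coeff_le_of_polyLE {P Q : ℚ[X]} {d : ℕ} (hP : P.natDegree ≤ d) (hQ : Q.natDegree ≤ d)
    (h : PolyLE P Q) : P.coeff d ≤ Q.coeff d := by
  have := coeff_nonneg_of_leadingCoeff_nonneg (d := d) ((natDegree_sub_le _ _).trans (max_le hQ hP))
    (polyLE_iff.mp h)
  rw [coeff_sub] at this
  linarith

theorem polyLT_of_coeff_lt {P Q : ℚ[X]} {d : ℕ} (hP : P.natDegree ≤ d) (hQ : Q.natDegree ≤ d)
    (h : P.coeff d < Q.coeff d) : PolyLT P Q :=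
  polyLT_iff.mpr (leadingCoeff_pos_of_coeff_pos (d := d) ((natDegree_sub_le _ _).trans (max_le hQ hP))
    (by rw [coeff_sub]; linarith))

section alpha

theorem alpha_add (d : ℕ) (P Q : ℚ[X]) : alpha d (P + Q) = alpha d P + alpha d Q := by
  simp only [alpha, coeff_add, mul_add]

theorem alpha_sub (d : ℕ) (P Q : ℚ[X]) : alpha d (P - Q) = alpha d P - alpha d Q := by
  simp only [alpha, coeff_sub, mul_sub]

theorem alpha_zero (d : ℕ) : alpha d 0 = 0 := by simp [alpha]

theorem alpha_smul (d : ℕ) (c : ℚ) (P : ℚ[X]) : alpha d (c • P) = c * alpha d P := by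
  simp only [alpha, coeff_smul, smul_eq_mul]; ring

theorem alpha_sum {ι : Type*} (d : ℕ) (s : Finset ι) (P : ι → ℚ[X]) :
    alpha d (∑ i ∈ s, P i) = ∑ i ∈ s, alpha d (P i) := by
  simp only [alpha, finsetSum_coeff, Finset.mul_sum]

theorem alpha_eq_zero_of_natDegree_lt {d : ℕ} {P : ℚ[X]} (h : P.natDegree < d) : alpha d P = 0 := by
  rw [alpha, coeff_eq_zero_of_natDegree_lt h, mul_zero]

theorem coeff_pos_iff_alpha_pos {d : ℕ} {P : ℚ[X]} : 0 < P.coeff d ↔ 0 < alpha d P := by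
  rw [alpha]
  exact (mul_pos_iff_of_pos_left (by exact_mod_cast d.factorial_pos)).symm

theorem alpha_le_iff {d : ℕ} {P Q : ℚ[X]} : alpha d P ≤ alpha d Q ↔ P.coeff d ≤ Q.coeff d := by
  rw [alpha, alpha]
  exact mul_le_mul_iff_right₀ (by exact_mod_cast d.factorial_pos)

theorem alpha_lt_iff {d : ℕ} {P Q : ℚ[X]} : alpha d P < alpha d Q ↔ P.coeff d < Q.coeff d := by
  rw [alpha, alpha]
  exact mul_lt_mul_iff_right₀ (by exact_mod_cast d.factorial_pos)

theorem alpha_nonneg_of_polyLE {d : ℕ} {P : ℚ[X]} (hd : P.natDegree ≤ d) (h : PolyLE 0 P) : 0 ≤ alpha d P := by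
  have := alpha_le_iff.mpr (coeff_le_of_polyLE (by simp) hd h)
  rwa [alpha_zero] at this

end alpha

section red

variable {d : ℕ}

theorem redLE_iff {P Q : ℚ[X]} : RedLE d P Q ↔ 0 ≤ (alpha d P • Q - alpha d Q • P).leadingCoeff := polyLE_iff

theorem redLT_iff {P Q : ℚ[X]} : RedLT d P Q ↔ 0 < (alpha d P • Q - alpha d Q • P).leadingCoeff := polyLT_iff

theorem redEq_iff {P Q : ℚ[X]} : RedEq d P Q ↔ alpha d P • Q - alpha d Q • P = 0 := by
  rw [sub_eq_zero, eq_comm]; rfl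

theorem redLE_refl (P : ℚ[X]) : RedLE d P P := polyLE_refl _

theorem redEq_refl (P : ℚ[X]) : RedEq d P P := rfl

theorem redEq_symm {P Q : ℚ[X]} (h : RedEq d P Q) : RedEq d Q P := h.symm

theorem redLE_of_redLT {P Q : ℚ[X]} (h : RedLT d P Q) : RedLE d P Q := polyLE_of_polyLT h

theorem redLE_of_redEq {P Q : ℚ[X]} (h : RedEq d P Q) : RedLE d P Q := by
  unfold RedLE; rw [show alpha d Q • P = alpha d P • Q from h]; exact polyLE_refl _

theorem not_redLE {P Q : ℚ[X]} : ¬ RedLE d P Q ↔ RedLT d Q P := not_polyLE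

theorem not_redLT {P Q : ℚ[X]} : ¬ RedLT d P Q ↔ RedLE d Q P := not_polyLT

theorem redLE_iff_lt_or_eq {P Q : ℚ[X]} : RedLE d P Q ↔ RedLT d P Q ∨ RedEq d P Q := polyLE_iff_lt_or_eq

theorem redLE_total (P Q : ℚ[X]) : RedLE d P Q ∨ RedLE d Q P := polyLE_total _ _

theorem redEq_of_redLE_of_redLE {P Q : ℚ[X]} (h : RedLE d P Q) (h' : RedLE d Q P) : RedEq d P Q :=
  polyLE_antisymm h h'

theorem redLT_irrefl (P : ℚ[X]) : ¬ RedLT d P P := polyLT_irrefl _

theorem redLE_trans {P Q R : ℚ[X]} (hP : 0 ≤ alpha d P) (hQ : 0 < alpha d Q) (hR : 0 ≤ alpha d R)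
    (h : RedLE d P Q) (h' : RedLE d Q R) : RedLE d P R := by
  obtain ⟨N, hN⟩ := h
  obtain ⟨N', hN'⟩ := h'
  refine ⟨max N N', fun m hm => ?_⟩
  have h1 := hN m ((le_max_left _ _).trans hm)
  have h2 := hN' m ((le_max_right _ _).trans hm)
  simp only [eval_smul, smul_eq_mul] at h1 h2 ⊢
  have h3 := mul_le_mul_of_nonneg_left h1 hR
  have h4 := mul_le_mul_of_nonneg_left h2 hP
  refine le_of_mul_le_mul_left ?_ hQ
  calc alpha d Q * (alpha d R * eval (m : ℚ) P) = alpha d R * (alpha d Q * eval (m : ℚ) P) := by ring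
    _ ≤ alpha d R * (alpha d P * eval (m : ℚ) Q) := h3
    _ = alpha d P * (alpha d R * eval (m : ℚ) Q) := by ring
    _ ≤ alpha d P * (alpha d Q * eval (m : ℚ) R) := h4
    _ = alpha d Q * (alpha d P * eval (m : ℚ) R) := by ring

theorem redLT_of_redLE_of_redLT {P Q R : ℚ[X]} (hP : 0 < alpha d P) (hQ : 0 < alpha d Q)
    (hR : 0 < alpha d R) (h : RedLE d P Q) (h' : RedLT d Q R) : RedLT d P R := by
  by_contra hc
  rw [not_redLT] at hc
  exact absurd h' (not_redLT.mpr (redLE_trans hR.le hP hQ.le hc h))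

theorem redLT_of_redLT_of_redLE {P Q R : ℚ[X]} (hP : 0 < alpha d P) (hQ : 0 < alpha d Q)
    (hR : 0 < alpha d R) (h : RedLT d P Q) (h' : RedLE d Q R) : RedLT d P R := by
  by_contra hc
  rw [not_redLT] at hc
  exact absurd h (not_redLT.mpr (redLE_trans hQ.le hR hP.le h' hc))

theorem redLT_trans {P Q R : ℚ[X]} (hP : 0 < alpha d P) (hQ : 0 < alpha d Q)
    (hR : 0 < alpha d R) (h : RedLT d P Q) (h' : RedLT d Q R) : RedLT d P R :=
  redLT_of_redLT_of_redLE hP hQ hR h (redLE_of_redLT h')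

theorem redEq_trans {P Q R : ℚ[X]} (hQ : alpha d Q ≠ 0)
    (h : RedEq d P Q) (h' : RedEq d Q R) : RedEq d P R := by
  unfold RedEq at *
  have : alpha d Q • (alpha d R • P) = alpha d Q • (alpha d P • R) := by
    rw [smul_comm, h, smul_comm, h', smul_comm]
  exact smul_right_injective _ hQ this

/-- Seesaw, first form: `p(F) ≤ p(E)` iff `p(F) ≤ p(G)` when `P_E = P_F + P_G`. -/
theorem redLE_add_left_iff {P Q : ℚ[X]} : RedLE d P (P + Q) ↔ RedLE d P Q := by
  refine polyLE_congr ?_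
  rw [alpha_add]
  module

theorem redLE_add_right_iff {P Q : ℚ[X]} : RedLE d (P + Q) Q ↔ RedLE d P Q := by
  refine polyLE_congr ?_
  rw [alpha_add]
  module

theorem redLT_add_left_iff {P Q : ℚ[X]} : RedLT d P (P + Q) ↔ RedLT d P Q := by
  refine polyLT_congr ?_
  rw [alpha_add]
  module

theorem redLT_add_right_iff {P Q : ℚ[X]} : RedLT d (P + Q) Q ↔ RedLT d P Q := by
  refine polyLT_congr ?_
  rw [alpha_add]
  module

theorem redEq_add_left_iff {P Q : ℚ[X]} : RedEq d P (P + Q) ↔ RedEq d P Q := by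
  rw [redEq_iff, redEq_iff, alpha_add]
  refine Eq.congr_left ?_
  module

theorem redEq_add_right_iff {P Q : ℚ[X]} : RedEq d (P + Q) Q ↔ RedEq d P Q := by
  rw [redEq_iff, redEq_iff, alpha_add]
  refine Eq.congr_left ?_
  module

/-- When the multiplicities agree and are positive, the reduced comparison is the comparison. -/
theorem redLE_iff_of_alpha_eq {P Q : ℚ[X]} (h : alpha d P = alpha d Q) (h0 : 0 < alpha d P) :
    RedLE d P Q ↔ PolyLE P Q := by
  unfold RedLE
  rw [← h, polyLE_smul_iff h0]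

theorem redLT_iff_of_alpha_eq {P Q : ℚ[X]} (h : alpha d P = alpha d Q) (h0 : 0 < alpha d P) :
    RedLT d P Q ↔ PolyLT P Q := by
  unfold RedLT
  rw [← h, polyLT_smul_iff h0]

/-- The top coefficient comparison implied by a reduced comparison. -/
theorem hatSlope_le_of_redLE {P Q : ℚ[X]} (hd : 1 ≤ d) (hP : P.natDegree ≤ d) (hQ : Q.natDegree ≤ d)
    (hP0 : 0 < alpha d P) (hQ0 : 0 < alpha d Q) (h : RedLE d P Q) : hatSlope d P ≤ hatSlope d Q := by
  obtain ⟨e, rfl⟩ : ∃ e, d = e + 1 := ⟨d - 1, by omega⟩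
  set R : ℚ[X] := alpha (e + 1) P • Q - alpha (e + 1) Q • P with hR
  have hc : R.coeff (e + 1) = 0 := by
    rw [hR, coeff_sub, coeff_smul, coeff_smul, alpha, alpha]
    simp only [smul_eq_mul]
    ring
  have hdeg : R.natDegree ≤ e + 1 := by
    refine (natDegree_sub_le _ _).trans (max_le ?_ ?_)
    · exact (natDegree_smul_le _ _).trans hQ
    · exact (natDegree_smul_le _ _).trans hP
  have hdeg' : R.natDegree ≤ e := by
    by_contra hlt
    have h1 : R.natDegree = e + 1 := by omega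
    have h2 : R ≠ 0 := by rintro h0; rw [h0, natDegree_zero] at h1; omega
    exact h2 (leadingCoeff_eq_zero.mp (by rw [leadingCoeff, h1]; exact hc))
  have h1 := coeff_nonneg_of_leadingCoeff_nonneg hdeg' (redLE_iff.mp h)
  rw [hR, coeff_sub, coeff_smul, coeff_smul] at h1
  simp only [smul_eq_mul] at h1
  unfold hatSlope
  rw [div_le_div_iff₀ hP0 hQ0, Nat.add_sub_cancel]
  have hf : (0 : ℚ) < (e.factorial : ℚ) := by exact_mod_cast e.factorial_pos
  have h2 : alpha e Q = (e.factorial : ℚ) * Q.coeff e := rfl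
  have h3 : alpha e P = (e.factorial : ℚ) * P.coeff e := rfl
  rw [h2, h3]
  nlinarith

theorem topPart_eq {ℓ : ℕ} {P : ℚ[X]} (hℓ : d ≤ ℓ) (hP : P.natDegree ≤ d) : topPart ℓ d P = P := by
  unfold topPart
  rw [Nat.sub_eq_zero_of_le hℓ]
  conv_rhs => rw [P.as_sum_range' (d + 1) (by omega)]
  refine Finset.sum_congr ?_ fun _ _ => rfl
  ext i
  simp

end red

end K847.PolyOrd
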