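import Groth.Prelude.Def_ShStab
import Groth.Agent.S1528
import Groth.Agent.Fga.PosMain
import Groth.Agent.EtpbcA.CdFinDim
import Groth.Agent.ShStab.K847.PolyOrd

/-!
# Hilbert polynomials of coherent modules with respect to an ample module (namespace `K847.HilbBasic`)

For `X` proper over a field `k`, `L` invertible (ample for the positivity statements):
existence with a degree bound, uniqueness, invariance under isomorphisms, additivity in short exact sequences,
twists, positivity of `alpha d` for `d` the dimension of the support, eventual positivity.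
-/

set_option autoImplicit false
universe u
open CategoryTheory CategoryTheory.Limits AlgebraicGeometry Polynomial

namespace K847.HilbBasic

open Groth.Agent Groth.Agent.Fga.PicMon K847.PolyOrd StabCat

section uniq

variable (k : Type u) [Field k] {X : Scheme.{u}} [X.Over (Spec (CommRingCat.of k))]

theorem hilbPoly_unique {L F : X.Modules} {P Q : ℚ[X]} (hP : ShStab.IsHilbPoly k X L F P)
    (hQ : ShStab.IsHilbPoly k X L F Q) : P = Q :=
  eq_of_eval_nat fun m => (hP m).symm.trans (hQ m)

theorem euler_congr {F G : X.Modules} (e : F ≅ G) : Curv2.euler k X F = Curv2.euler k X G := by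
  unfold Curv2.euler
  refine finsum_congr fun i => ?_
  rw [(hmapEquiv k X e i).finrank_eq]

theorem euler_isZero {F : X.Modules} (hF : IsZero F) : Curv2.euler k X F = 0 := by
  unfold Curv2.euler
  rw [finsum_eq_zero_of_forall_eq_zero]
  intro i
  have := Fga.IntNum0.HH_subsingleton_of_isZero hF i
  rw [Module.finrank_zero_of_subsingleton]
  simp

theorem twist_congr {L F G : X.Modules} (e : F ≅ G) (m : ℕ) :
    Nonempty (ShStab.twist X L F m ≅ ShStab.twist X L G m) := by
  rw [← mc_eq_iff]
  unfold ShStab.twist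
  rw [mc_tensor, mc_tensor, mc_eq e]

theorem twist_isZero {L F : X.Modules} (h : IsZero F) (m : ℕ) : IsZero (ShStab.twist X L F m) := by
  obtain ⟨e⟩ : Nonempty (ShStab.twist X L F m ≅ CohB1.tensorMod (CohB1.tensorPow L m) F) := by
    rw [← mc_eq_iff]
    unfold ShStab.twist
    rw [mc_tensor, mc_tensor, mul_comm]
  refine IsZero.of_iso ?_ e
  have h1 : IsZero ((DCoh.tensorBi.obj (CohB1.tensorPow L m)).obj F) := Functor.map_isZero _ h
  exact h1

theorem isHilbPoly_iso {L F G : X.Modules} (e : F ≅ G) {P : ℚ[X]} (h : ShStab.IsHilbPoly k X L F P) :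
    ShStab.IsHilbPoly k X L G P := fun m => by
  obtain ⟨e'⟩ := twist_congr (L := L) e m
  rw [← h m, euler_congr k e']

theorem isHilbPoly_iso_iff {L F G : X.Modules} (e : F ≅ G) {P : ℚ[X]} :
    ShStab.IsHilbPoly k X L F P ↔ ShStab.IsHilbPoly k X L G P :=
  ⟨isHilbPoly_iso k e, isHilbPoly_iso k e.symm⟩

/-- The Hilbert polynomial only depends on the isomorphism class of the polarisation. -/
theorem isHilbPoly_iso_left {L L' F : X.Modules} (e : L ≅ L') {P : ℚ[X]} (h : ShStab.IsHilbPoly k X L F P) :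
    ShStab.IsHilbPoly k X L' F P := fun m => by
  obtain ⟨e'⟩ : Nonempty (ShStab.twist X L F m ≅ ShStab.twist X L' F m) := by
    rw [← mc_eq_iff]
    unfold ShStab.twist
    rw [mc_tensor, mc_tensor, mc_tensorPow, mc_tensorPow, mc_eq e]
  rw [← h m, euler_congr k e']

theorem isHilbPoly_zero {L F : X.Modules} (hF : IsZero F) : ShStab.IsHilbPoly k X L F 0 := fun m => by
  rw [euler_isZero k (twist_isZero hF m)]
  simp

theorem hilbPoly_eq_zero {L F : X.Modules} (hF : IsZero F) {P : ℚ[X]} (h : ShStab.IsHilbPoly k X L F P) : P = 0 :=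
  hilbPoly_unique k h (isHilbPoly_zero k hF)

end uniq

variable (k : Type u) [Field k] {X : Scheme.{u}} [X.Over (Spec (CommRingCat.of k))]
  [IsProper (X ↘ Spec (CommRingCat.of k))]

/-- Existence of the Hilbert polynomial, with degree at most the dimension of the support. -/
theorem exists_hilbPoly_le {L F : X.Modules} (hL : PicF.IsInvertible L) (hF : Coh.IsCoh F) (d : ℕ)
    (hd : topologicalKrullDim (CohB1.support F) ≤ (d : WithBot ℕ∞)) :
    ∃ P : ℚ[X], P.natDegree ≤ d ∧ ShStab.IsHilbPoly k X L F P := by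
  obtain ⟨P, hP, hP'⟩ := S1528.result k X F hF d hd 1 (fun _ => L) (fun _ => hL)
  refine ⟨MvPolynomial.aeval (fun _ => Polynomial.X) P, ?_, fun m => ?_⟩
  · have := MvPolynomial.aeval_natDegree_le (m := d) (n := 1) P hP (fun _ => (Polynomial.X : ℚ[X]))
      (fun _ => natDegree_X_le)
    simpa using this
  · have h1 := hP' (fun _ => m)
    have h2 : Curv2.tensorPows F 1 (fun _ => L) (fun _ => m) = ShStab.twist X L F m := rfl
    rw [h2] at h1
    rw [h1]
    have h3 : Polynomial.eval (m : ℚ) (MvPolynomial.aeval (fun _ => (Polynomial.X : ℚ[X])) P) =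
        (Polynomial.evalRingHom (m : ℚ)) (MvPolynomial.aeval (fun _ => (Polynomial.X : ℚ[X])) P) := rfl
    rw [h3, MvPolynomial.aeval_def, MvPolynomial.eval₂_eq', map_sum, MvPolynomial.eval_eq']
    refine Finset.sum_congr rfl fun x _ => ?_
    rw [map_mul, map_prod]
    simp

include k in
theorem exists_dim_le (X : Scheme.{u}) [X.Over (Spec (CommRingCat.of k))]
    [IsProper (X ↘ Spec (CommRingCat.of k))] : ∃ d : ℕ, topologicalKrullDim X ≤ (d : WithBot ℕ∞) :=
  EtpbcA.CdFinDim.exists_dim_le (X ↘ Spec (CommRingCat.of k))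

omit [X.Over (Spec (CommRingCat.of k))] in
theorem dim_support_le (F : X.Modules) : topologicalKrullDim (CohB1.support F) ≤ topologicalKrullDim X :=
  Topology.IsInducing.topologicalKrullDim_le (f := (Subtype.val : CohB1.support F → X))
    Topology.IsInducing.subtypeVal

/-- Existence of the Hilbert polynomial. -/
theorem exists_hilbPoly {L F : X.Modules} (hL : PicF.IsInvertible L) (hF : Coh.IsCoh F) :
    ∃ P : ℚ[X], ShStab.IsHilbPoly k X L F P := by
  obtain ⟨d, hd⟩ := exists_dim_le k X
  obtain ⟨P, -, hP⟩ := exists_hilbPoly_le k hL hF d ((dim_support_le F).trans hd)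
  exact ⟨P, hP⟩


section add

theorem isAdd_euler : Fga.ChiBasic.IsAdd (fun F : X.Modules => Curv2.euler k X F) :=
  fun S hS h1 h2 h3 => S1524.result k X S hS h1 h2 h3

omit [X.Over (Spec (CommRingCat.of k))] [IsProper (X ↘ Spec (CommRingCat.of k))] in
theorem twist_swap (L F : X.Modules) (m : ℕ) :
    Nonempty (ShStab.twist X L F m ≅ CohB1.tensorMod (CohB1.tensorPow L m) F) := by
  rw [← mc_eq_iff]
  unfold ShStab.twist
  rw [mc_tensor, mc_tensor, mul_comm]

/-- Additivity of the Euler characteristics of the twists. -/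
theorem euler_twist_add {L : X.Modules} (hL : PicF.IsInvertible L) (S : ShortComplex X.Modules)
    (hS : S.ShortExact) (h1 : Coh.IsCoh S.X₁) (h2 : Coh.IsCoh S.X₂) (h3 : Coh.IsCoh S.X₃) (m : ℕ) :
    Curv2.euler k X (ShStab.twist X L S.X₂ m) =
      Curv2.euler k X (ShStab.twist X L S.X₁ m) + Curv2.euler k X (ShStab.twist X L S.X₃ m) := by
  obtain ⟨e1⟩ := twist_swap L S.X₁ m
  obtain ⟨e2⟩ := twist_swap L S.X₂ m
  obtain ⟨e3⟩ := twist_swap L S.X₃ m
  rw [euler_congr k e1, euler_congr k e2, euler_congr k e3]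
  exact Fga.SnapperTwist.isAdd_twist (isAdd_euler k) (Fdesc.LocGen.isInvertible_tensorPow hL m) S hS h1 h2 h3

/-- Additivity of Hilbert polynomials. -/
theorem hilbPoly_add {L : X.Modules} (hL : PicF.IsInvertible L) (S : ShortComplex X.Modules)
    (hS : S.ShortExact) (h1 : Coh.IsCoh S.X₁) (h2 : Coh.IsCoh S.X₂) (h3 : Coh.IsCoh S.X₃)
    {P₁ P₂ P₃ : ℚ[X]} (hP₁ : ShStab.IsHilbPoly k X L S.X₁ P₁) (hP₂ : ShStab.IsHilbPoly k X L S.X₂ P₂)
    (hP₃ : ShStab.IsHilbPoly k X L S.X₃ P₃) : P₂ = P₁ + P₃ :=
  eq_of_eval_nat fun m => by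
    rw [eval_add, ← hP₁ m, ← hP₂ m, ← hP₃ m, euler_twist_add k hL S hS h1 h2 h3 m]
    push_cast
    rfl

omit [IsProper (X ↘ Spec (CommRingCat.of k))] in
/-- Hilbert polynomial of a twist. -/
theorem isHilbPoly_tensorPow {L F : X.Modules} {P : ℚ[X]} (hP : ShStab.IsHilbPoly k X L F P) (n : ℕ) :
    ShStab.IsHilbPoly k X L (CohB1.tensorMod (CohB1.tensorPow L n) F) (P.comp (Polynomial.X + C (n : ℚ))) := by
  intro m
  obtain ⟨e⟩ : Nonempty (ShStab.twist X L (CohB1.tensorMod (CohB1.tensorPow L n) F) m ≅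
      ShStab.twist X L F (m + n)) := by
    rw [← mc_eq_iff]
    unfold ShStab.twist
    rw [mc_tensor, mc_tensor, mc_tensor, mc_tensorPow, mc_tensorPow, mc_tensorPow, pow_add]
    rw [mul_comm (mc L ^ n), mul_assoc, mul_comm (mc L ^ n)]
  rw [euler_congr k e, hP (m + n), eval_comp]
  simp

end add

section pos

theorem coeff_comp_sub {P : ℚ[X]} {r : ℕ} (hP : P.natDegree ≤ r + 1) (c : ℚ) :
    (P.comp (Polynomial.X + C c) - P).coeff r = (r + 1) * c * P.coeff (r + 1) := by
  have h0 : P.comp (Polynomial.X + C c) = taylor c P := (taylor_apply c P).symm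
  rw [h0, coeff_sub, taylor_coeff, eval_eq_sum_range' (n := 2)]
  · rw [Finset.sum_range_succ, Finset.sum_range_one, hasseDeriv_coeff, hasseDeriv_coeff]
    simp only [zero_add, Nat.choose_self, Nat.cast_one, one_mul, pow_zero, mul_one, pow_one]
    rw [add_comm 1 r, Nat.choose_succ_self_right]
    push_cast
    ring
  · have := natDegree_hasseDeriv_le P r
    omega

/-- The degree of the Hilbert polynomial is at most the dimension of the support. -/
theorem natDegree_le {L F : X.Modules} (hL : PicF.IsInvertible L) (hF : Coh.IsCoh F) {d : ℕ}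
    (hd : topologicalKrullDim (CohB1.support F) ≤ (d : WithBot ℕ∞)) {P : ℚ[X]}
    (hP : ShStab.IsHilbPoly k X L F P) : P.natDegree ≤ d := by
  obtain ⟨Q, hQ, hQ'⟩ := exists_hilbPoly_le k hL hF d hd
  rwa [hilbPoly_unique k hP hQ']

/-- The coefficient of the Hilbert polynomial in the dimension of the support is positive. -/
theorem coeff_pos {L : X.Modules} (hL : CohB1.IsAmple L) {F : X.Modules} (hF : Coh.IsCoh F) {d : ℕ}
    (hd : topologicalKrullDim (CohB1.support F) = (d : WithBot ℕ∞)) {P : ℚ[X]}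
    (hP : ShStab.IsHilbPoly k X L F P) : 0 < P.coeff d := by
  induction d generalizing F P with
  | zero =>
    obtain ⟨e, he⟩ := exists_dim_le k X
    have h1 := Fga.PosZero.euler_pos k X e F hF hd
    rw [Fga.IntAdd.eulerCharLE_eq k X e he] at h1
    have h2 := hP 0
    obtain ⟨e0⟩ : Nonempty (ShStab.twist X L F 0 ≅ F) := by
      rw [← mc_eq_iff]
      unfold ShStab.twist
      rw [mc_tensor, mc_tensorPow, pow_zero, mul_one]
    rw [euler_congr k e0] at h2
    rw [coeff_zero_eq_eval_zero]
    rw [Nat.cast_zero] at h2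
    rw [← h2]
    exact_mod_cast h1
  | succ r ih =>
    have := Fga.IntAdd.isNoetherian k X
    obtain ⟨n, s, hmono, hdim⟩ := Fga.HypSec.exists_cut k X L hL F hF r hd
    have hN : PicF.IsInvertible (CohB1.tensorPow L (n + 1)) := Fdesc.LocGen.isInvertible_tensorPow hL.1 _
    have hNF : Coh.IsCoh (CohB1.tensorMod (CohB1.tensorPow L (n + 1)) F) :=
      Sga67.CohBasic.isCoh_of_iso (Ega2.Tens.swap F _) (Fga.TwistCoh.isCoh_tensor hF hN)
    have hC : Coh.IsCoh (cokernel (Fga.RegSec.mulS s F)) := Sga67.CohBasic.isCoh_cokernel _ hF.1 hNF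
    have hS : (ShortComplex.mk (Fga.RegSec.mulS s F) (cokernel.π (Fga.RegSec.mulS s F))
        (cokernel.condition _)).ShortExact :=
      { exact := ShortComplex.exact_cokernel _
        mono_f := hmono
        epi_g := inferInstanceAs (Epi (cokernel.π (Fga.RegSec.mulS s F))) }
    obtain ⟨Q, hQ⟩ := exists_hilbPoly k hL.1 hC
    have h1 := hilbPoly_add k hL.1 _ hS hF hNF hC hP (isHilbPoly_tensorPow k hP (n + 1)) hQ
    have h2 := ih hC hdim hQ
    have h3 : Q = P.comp (Polynomial.X + C ((n + 1 : ℕ) : ℚ)) - P := by rw [h1]; ring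
    rw [h3, coeff_comp_sub (natDegree_le k hL.1 hF hd.le hP)] at h2
    exact (mul_pos_iff_of_pos_left (by positivity)).mp h2

/-- `α_d(P_F) > 0` for `d` the dimension of the support. -/
theorem alpha_pos {L : X.Modules} (hL : CohB1.IsAmple L) {F : X.Modules} (hF : Coh.IsCoh F) {d : ℕ}
    (hd : topologicalKrullDim (CohB1.support F) = (d : WithBot ℕ∞)) {P : ℚ[X]}
    (hP : ShStab.IsHilbPoly k X L F P) : 0 < alpha d P :=
  coeff_pos_iff_alpha_pos.mp (coeff_pos k hL hF hd hP)

/-- The degree of the Hilbert polynomial is the dimension of the support. -/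
theorem natDegree_eq {L : X.Modules} (hL : CohB1.IsAmple L) {F : X.Modules} (hF : Coh.IsCoh F) {d : ℕ}
    (hd : topologicalKrullDim (CohB1.support F) = (d : WithBot ℕ∞)) {P : ℚ[X]}
    (hP : ShStab.IsHilbPoly k X L F P) : P.natDegree = d :=
  le_antisymm (natDegree_le k hL.1 hF hd.le hP) (le_natDegree_of_ne_zero (coeff_pos k hL hF hd hP).ne')

include k in
/-- The support of a nonzero module has finite natural dimension. -/
theorem exists_dim_support_eq {F : X.Modules} (hF : ¬ IsZero F) :
    ∃ d : ℕ, topologicalKrullDim (CohB1.support F) = (d : WithBot ℕ∞) := by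
  obtain ⟨e, he⟩ := exists_dim_le k X
  have h1 := (dim_support_le F).trans he
  have hne : Nonempty (CohB1.support F) := by
    by_contra h
    rw [not_nonempty_iff] at h
    exact hF (CohqB.DevSupport.isZero_of_support_eq_empty (Set.isEmpty_coe_sort.mp h))
  have h2 : (0 : WithBot ℕ∞) ≤ topologicalKrullDim (CohB1.support F) :=
    Fga.IntNum0.topologicalKrullDim_nonneg _
  generalize topologicalKrullDim (CohB1.support F) = a at h1 h2
  induction a with
  | bot => exact absurd h2 (by simp)
  | coe a =>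
    induction a with
    | top => exact absurd h1 (by rw [← WithBot.coe_natCast, WithBot.coe_le_coe]; simp)
    | coe a => exact ⟨a, rfl⟩

omit [IsProper (X ↘ Spec (CommRingCat.of k))] [X.Over (Spec (CommRingCat.of k))] in
theorem dim_support_isZero {F : X.Modules} (hF : IsZero F) :
    topologicalKrullDim (CohB1.support F) = ⊥ := by
  rw [CohqB.DevSupport.support_eq_empty_of_isZero hF]
  have : IsEmpty (TopologicalSpace.IrreducibleCloseds (∅ : Set X)) :=
    ⟨fun Z => by obtain ⟨x, -⟩ := Z.isIrreducible.nonempty; exact x.2⟩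
  rw [topologicalKrullDim, Order.krullDim_eq_bot]

/-- The Hilbert polynomial of a nonzero coherent module has positive leading coefficient. -/
theorem leadingCoeff_pos {L : X.Modules} (hL : CohB1.IsAmple L) {F : X.Modules} (hF : Coh.IsCoh F)
    (h0 : ¬ IsZero F) {P : ℚ[X]} (hP : ShStab.IsHilbPoly k X L F P) : 0 < P.leadingCoeff := by
  obtain ⟨d, hd⟩ := exists_dim_support_eq k h0
  exact leadingCoeff_pos_of_coeff_pos (natDegree_le k hL.1 hF hd.le hP) (coeff_pos k hL hF hd hP)

/-- The Hilbert polynomial of a nonzero coherent module is eventually positive. -/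
theorem polyLT_zero {L : X.Modules} (hL : CohB1.IsAmple L) {F : X.Modules} (hF : Coh.IsCoh F)
    (h0 : ¬ IsZero F) {P : ℚ[X]} (hP : ShStab.IsHilbPoly k X L F P) : PolyLT 0 P :=
  polyLT_iff.mpr (by rw [sub_zero]; exact leadingCoeff_pos k hL hF h0 hP)

theorem polyLE_zero {L : X.Modules} (hL : CohB1.IsAmple L) {F : X.Modules} (hF : Coh.IsCoh F)
    {P : ℚ[X]} (hP : ShStab.IsHilbPoly k X L F P) : PolyLE 0 P := by
  by_cases h0 : IsZero F
  · rw [hilbPoly_eq_zero k h0 hP]; exact polyLE_refl _
  · exact polyLE_of_polyLT (polyLT_zero k hL hF h0 hP)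

theorem alpha_nonneg {L : X.Modules} (hL : CohB1.IsAmple L) {F : X.Modules} (hF : Coh.IsCoh F) {d : ℕ}
    (hd : topologicalKrullDim (CohB1.support F) ≤ (d : WithBot ℕ∞))
    {P : ℚ[X]} (hP : ShStab.IsHilbPoly k X L F P) : 0 ≤ alpha d P :=
  alpha_nonneg_of_polyLE (natDegree_le k hL.1 hF hd hP) (polyLE_zero k hL hF hP)

/-- `α_d` vanishes iff the dimension of the support is less than `d`. -/
theorem alpha_eq_zero_iff {L : X.Modules} (hL : CohB1.IsAmple L) {F : X.Modules} (hF : Coh.IsCoh F) {d : ℕ}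
    (hd : topologicalKrullDim (CohB1.support F) ≤ (d : WithBot ℕ∞))
    {P : ℚ[X]} (hP : ShStab.IsHilbPoly k X L F P) :
    alpha d P = 0 ↔ topologicalKrullDim (CohB1.support F) < (d : WithBot ℕ∞) := by
  constructor
  · intro h
    exact lt_of_le_of_ne hd fun h1 => (alpha_pos k hL hF h1 hP).ne' h
  · intro h
    by_cases h0 : IsZero F
    · rw [hilbPoly_eq_zero k h0 hP, alpha_zero]
    · obtain ⟨e, he⟩ := exists_dim_support_eq k h0
      rw [he] at h
      have h1 : e < d := by exact_mod_cast h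
      exact alpha_eq_zero_of_natDegree_lt ((natDegree_le k hL.1 hF he.le hP).trans_lt h1)

end pos

end K847.HilbBasic
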