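import Groth.Agent.ShStab.K847.StabBasic
import Groth.Agent.Sga7.H764.DimClosure
import Groth.Agent.CohqA.DevSub
import Groth.Agent.S1577
import Groth.Agent.S0020
import Groth.Agent.Sga67.CohBasic

/-!
# Purity in terms of associated points (namespace `K847.AssPure`)

* `exists_ass_specializes`: every point of the support is a specialization of an associated point.
* `isPure_of_ass`: if the closures of all associated points have dimension `d`, then `E` is pure of dimension `d`.
* `dim_closure_of_isPure`: the converse for coherent `E` on a Noetherian scheme.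
-/

set_option autoImplicit false
universe u
open CategoryTheory CategoryTheory.Limits AlgebraicGeometry TopologicalSpace

namespace K847.AssPure

open Groth.Agent Groth.Agent.CohqA.AssSub Groth.Agent.CohqA.AssInj ShStab K847.StabBasic

variable {X : Scheme.{u}}

/-- Every point of the support is a specialization of an associated point. -/
theorem exists_ass_specializes [IsLocallyNoetherian X] {F : X.Modules} (hF : Coh.IsCoh F) {z : X}
    (hz : z ∈ CohB1.support F) : ∃ y ∈ AssSch.Ass F, y ⤳ z := by
  have hT : IsClosed (CohB1.support F) := S0020.result X F hF.2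
  have hq : QuasiSober (CohB1.support F) := hT.isClosedEmbedding_subtypeVal.quasiSober
  obtain ⟨y, hy⟩ := QuasiSober.sober (isIrreducible_irreducibleComponent (x := (⟨z, hz⟩ : CohB1.support F)))
    isClosed_irreducibleComponent
  refine ⟨y.1, ?_, ?_⟩
  · refine S1577.result X F hF.1 y.1 y.2 fun w hw hwy => ?_
    have h1 : (⟨w, hw⟩ : CohB1.support F) ⤳ y := Topology.IsInducing.subtypeVal.specializes_iff.mp hwy
    have h2 : irreducibleComponent (⟨z, hz⟩ : CohB1.support F) ⊆ closure {(⟨w, hw⟩ : CohB1.support F)} := by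
      rw [← hy.def]
      exact h1.closure_subset
    have h3 := (irreducibleComponent_mem_irreducibleComponents (⟨z, hz⟩ : CohB1.support F)).eq_of_ge
      (isIrreducible_singleton.closure) h2
    have h4 : IsGenericPoint (⟨w, hw⟩ : CohB1.support F) (irreducibleComponent (⟨z, hz⟩ : CohB1.support F)) := h3
    exact congrArg Subtype.val (h4.eq hy)
  · have h1 : y ⤳ (⟨z, hz⟩ : CohB1.support F) := hy.specializes mem_irreducibleComponent
    exact h1.map continuous_subtype_val

theorem closure_subset_support [IsLocallyNoetherian X] {F : X.Modules} (hF : Coh.IsCoh F) {x : X}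
    (hx : x ∈ CohB1.support F) : closure {x} ⊆ CohB1.support F :=
  closure_minimal (Set.singleton_subset_iff.mpr hx) (S0020.result X F hF.2)

theorem mem_support_of_mem_ass {F : X.Modules} {x : X} (hx : x ∈ AssSch.Ass F) : x ∈ CohB1.support F := by
  intro hs
  have hn : Nontrivial (F.presheaf.stalk x) := Fdesc.SkyAss.nontrivial_stalk_of_mem_ass hx
  exact not_subsingleton _ hs

theorem dim_mono {s t : Set X} (h : s ⊆ t) : topologicalKrullDim s ≤ topologicalKrullDim t :=
  (Topology.IsEmbedding.inclusion h).isInducing.topologicalKrullDim_le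

/-- The dimension of the support in terms of associated points. -/
theorem dim_support_le_of_ass [IsLocallyNoetherian X] {F : X.Modules} (hF : Coh.IsCoh F) (d : WithBot ℕ∞)
    (h : ∀ x ∈ AssSch.Ass F, topologicalKrullDim (closure ({x} : Set X)) ≤ d) :
    topologicalKrullDim (CohB1.support F) ≤ d := by
  refine Sga7.H764.DimClosure.topologicalKrullDim_le_of_isClosed _ (S0020.result X F hF.2) d fun z hz => ?_
  obtain ⟨y, hy, hyz⟩ := exists_ass_specializes hF hz
  exact (Sga7.H764.DimClosure.closure_mono hyz).trans (h y hy)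

theorem dim_closure_le [IsLocallyNoetherian X] {F : X.Modules} (hF : Coh.IsCoh F) {x : X}
    (hx : x ∈ CohB1.support F) :
    topologicalKrullDim (closure ({x} : Set X)) ≤ topologicalKrullDim (CohB1.support F) :=
  dim_mono (closure_subset_support hF hx)

/-- If the closures of all associated points have dimension `d`, then `E` is pure of dimension `d`. -/
theorem isPure_of_ass [IsLocallyNoetherian X] {E : X.Modules} (hE : Coh.IsQCoh E) {d : ℕ}
    (h : ∀ x ∈ AssSch.Ass E, topologicalKrullDim (closure ({x} : Set X)) = (d : WithBot ℕ∞)) :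
    IsPure X E d := by
  intro F ι hι hF hF0
  have hA : AssSch.Ass F ⊆ AssSch.Ass E := Fdesc.SubFilt.ass_subset_of_mono ι hF.1 hE
  refine le_antisymm (dim_support_le_of_ass hF _ fun x hx => (h x (hA hx)).le) ?_
  obtain ⟨x, hx⟩ := exists_mem_ass_of_not_isZero hF.1 hF0
  rw [← h x (hA hx)]
  exact dim_closure_le hF (mem_support_of_mem_ass hx)

/-- The submodule of the sections with support in the closure of an associated point is nonzero. -/
theorem not_isZero_vanish [IsLocallyNoetherian X] {Q : X.Modules} (hQ : Coh.IsQCoh Q) {x : X} (hx : x ∈ AssSch.Ass Q)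
    (W : X.Opens) (hW : ∀ y ∈ W, ¬ x ⤳ y) : ¬ IsZero (vanish Q W).toModules := by
  intro hz
  obtain ⟨U, hU, hxU, -⟩ := Opens.isBasis_iff_nbhd.mp X.isBasis_affineOpens
    (show x ∈ (⊤ : X.Opens) from trivial)
  obtain ⟨m, hm⟩ := exists_section_of_mem_ass hQ hU x hxU hx
  have h1 : m ∈ (vanish Q W).obj U := by
    rw [mem_vanish]
    refine Ega1.SubSheaf.section_ext Q _ _ fun y hy => ?_
    have hxy : ¬ x ⤳ y := hW y hy.2
    have : ∃ b : Γ(X, U), y ∈ X.basicOpen b ∧ x ∉ X.basicOpen b := by
      rw [specializes_iff_mem_closure] at hxy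
      obtain ⟨b, hb, hyb⟩ := hU.exists_basicOpen_le (V := U ⊓ ⟨(closure {x})ᶜ, isClosed_closure.isOpen_compl⟩)
        ⟨y, ⟨hy.1, hxy⟩⟩ hy.1
      exact ⟨b, hyb, fun h => (hb h).2 (subset_closure rfl)⟩
    obtain ⟨b, hyb, h2⟩ := this
    refine ⟨X.basicOpen b ⊓ (U ⊓ W), inf_le_right, ⟨hyb, hy⟩, ?_⟩
    rw [map_zero, Ega1.SubSheaf.res_res]
    have h3 := congrArg (Ega1.SubSheaf.res Q (X.basicOpen_le b)) ((hm b).mpr h2)
    rw [Ega1.SubSheaf.res_smul, map_zero] at h3
    have hu : IsUnit (X.presheaf.map (homOfLE (X.basicOpen_le b)).op b) :=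
      RingedSpace.isUnit_res_basicOpen _ b
    have h4 := hu.smul_eq_zero.mp h3
    have h5 := congrArg (Ega1.SubSheaf.res Q (inf_le_left : X.basicOpen b ⊓ (U ⊓ W) ≤ X.basicOpen b)) h4
    rw [map_zero, Ega1.SubSheaf.res_res] at h5
    exact h5
  have h2 : (vanish Q W).ι.app U ((vanish Q W).sec m h1) = 0 := by
    have : (vanish Q W).ι = 0 := hz.eq_of_src _ _
    rw [this]; rfl
  rw [Ega1.SubSheaf.Sub.ι_app_sec] at h2
  have h3 := (hm 1).mp (by rw [h2, smul_zero])
  rw [Scheme.basicOpen_one] at h3
  exact h3 hxU

/-- The closures of the associated points of a pure coherent module of dimension `d` have dimension `d`. -/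
theorem dim_closure_of_isPure [IsLocallyNoetherian X] {E : X.Modules} (hE : Coh.IsCoh E) {d : ℕ}
    (hp : IsPure X E d) {x : X} (hx : x ∈ AssSch.Ass E) :
    topologicalKrullDim (closure ({x} : Set X)) = (d : WithBot ℕ∞) := by
  have hE0 : ¬ IsZero E := fun h0 => by
    have h1 := mem_support_of_mem_ass hx
    rw [CohqB.DevSupport.support_eq_empty_of_isZero h0] at h1
    exact h1
  apply le_antisymm
  · exact (dim_closure_le hE (mem_support_of_mem_ass hx)).trans (dim_support_eq_of_isPure hE hE0 hp).le
  · let W : X.Opens := ⟨(closure {x})ᶜ, isClosed_closure.isOpen_compl⟩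
    have hq := isQCoh_vanish hE.1 W
    have hc : Coh.IsCoh (vanish E W).toModules := Sga67.CohBasic.isCoh_of_mono (vanish E W).ι hE hq
    have h0 : ¬ IsZero (vanish E W).toModules :=
      not_isZero_vanish hE.1 hx W fun y hy hxy => hy (specializes_iff_mem_closure.mp hxy)
    rw [← hp _ (vanish E W).ι inferInstance hc h0]
    refine dim_mono fun z hz => ?_
    obtain ⟨y, hy, hyz⟩ := exists_ass_specializes hc hz
    have h1 := (ass_vanish hE.1 W y hy).2
    have h2 : y ∈ closure {x} := by
      by_contra h
      exact h1 h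
    exact (specializes_iff_mem_closure.mpr h2).trans hyz |>.mem_closure

theorem isPure_iff [IsLocallyNoetherian X] {E : X.Modules} (hE : Coh.IsCoh E) {d : ℕ} :
    IsPure X E d ↔ ∀ x ∈ AssSch.Ass E, topologicalKrullDim (closure ({x} : Set X)) = (d : WithBot ℕ∞) :=
  ⟨fun hp _ hx => dim_closure_of_isPure hE hp hx, isPure_of_ass hE.1⟩

end K847.AssPure
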