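import Mathlib.Algebra.Polynomial.Taylor
import Mathlib.Algebra.Polynomial.HasseDeriv
import Mathlib.Data.Set.Finite.Lattice
import Mathlib.Algebra.Polynomial.Roots
import Mathlib.Data.Int.Interval
import Mathlib.Algebra.Order.Floor.Ring
import Mathlib.Data.Rat.Floor
import Mathlib.Tactic.LinearCombination

/-!
# Numerical lemmas for the Grothendieck lemma (namespace `K847.GLNum`)
-/

set_option autoImplicit false
open Polynomial

namespace K847.GLNum

/-- A polynomial with `P(X) = P(X - 1)` is constant. -/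
theorem eq_C_of_comp {R : ℚ[X]} (h : R.comp (X - C 1) = R) : R = C (R.eval 0) := by
  have h1 : ∀ m : ℕ, R.eval (-(m : ℚ)) = R.eval 0 := by
    intro m
    induction m with
    | zero => simp
    | succ m ih =>
      rw [← ih]
      have h2 := congrArg (eval (-(m : ℚ))) h
      rw [eval_comp] at h2
      rw [← h2]
      congr 1
      simp
      ring
  have h3 : (R - C (R.eval 0)) = 0 := by
    apply Polynomial.eq_zero_of_infinite_isRoot
    refine Set.infinite_of_injective_forall_mem (f := fun m : ℕ => -(m : ℚ)) ?_ ?_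
    · intro a b hab
      simpa using hab
    · intro m
      simp [h1 m]
  exact sub_eq_zero.mp h3

theorem diff_injective {P P' : ℚ[X]} (h : P - P.comp (X - C 1) = P' - P'.comp (X - C 1)) {t : ℚ}
    (ht : P.eval t = P'.eval t) : P = P' := by
  have h1 : (P - P').comp (X - C 1) = P - P' := by
    rw [sub_comp]
    linear_combination -h
  have h2 := eq_C_of_comp h1
  have h3 : (P - P').eval t = 0 := by rw [eval_sub, ht, sub_self]
  rw [h2, eval_C] at h3
  rw [h3, C_0] at h2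
  exact sub_eq_zero.mp h2

/-- A polynomial is determined up to finitely many possibilities by its difference and a bounded integral value. -/
theorem finite_of_diff {𝒬 : Set ℚ[X]} (h𝒬 : 𝒬.Finite) (t B : ℚ[X] → ℚ) :
    {P : ℚ[X] | ∃ Q ∈ 𝒬, P - P.comp (X - C 1) = Q ∧ ∃ v : ℤ, 0 ≤ (v : ℚ) ∧ (v : ℚ) ≤ B Q ∧
      P.eval (t Q) = v}.Finite := by
  have h1 : {P : ℚ[X] | ∃ Q ∈ 𝒬, P - P.comp (X - C 1) = Q ∧ ∃ v : ℤ, 0 ≤ (v : ℚ) ∧ (v : ℚ) ≤ B Q ∧
      P.eval (t Q) = v} ⊆ ⋃ Q ∈ 𝒬, ⋃ v ∈ Set.Icc (0 : ℤ) ⌊B Q⌋,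
        {P : ℚ[X] | P - P.comp (X - C 1) = Q ∧ P.eval (t Q) = v} := by
    rintro P ⟨Q, hQ, hP, v, hv0, hvB, hv⟩
    simp only [Set.mem_iUnion, Set.mem_ofPred_eq, exists_prop]
    exact ⟨Q, hQ, v, ⟨by exact_mod_cast hv0, Int.le_floor.mpr hvB⟩, hP, hv⟩
  refine Set.Finite.subset ?_ h1
  refine h𝒬.biUnion fun Q _ => (Set.finite_Icc _ _).biUnion fun v _ => ?_
  refine Set.Subsingleton.finite ?_
  rintro P ⟨hP, hv⟩ P' ⟨hP', hv'⟩
  exact diff_injective (hP.trans hP'.symm) (hv.trans hv'.symm)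

theorem taylor_neg_one (P : ℚ[X]) : P.comp (X - C 1) = taylor (-1) P := by
  rw [taylor_apply, sub_eq_add_neg, ← C_neg]

/-- Top coefficient of the difference. -/
theorem coeff_diff {P : ℚ[X]} {e : ℕ} (hP : P.natDegree ≤ e + 1) :
    (P - P.comp (X - C 1)).coeff e = (e + 1) * P.coeff (e + 1) := by
  rw [taylor_neg_one, coeff_sub, taylor_coeff, eval_eq_sum_range' (n := 2)]
  · rw [Finset.sum_range_succ, Finset.sum_range_one, hasseDeriv_coeff, hasseDeriv_coeff]
    simp only [zero_add, Nat.choose_self, Nat.cast_one, one_mul, pow_zero, mul_one, pow_one]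
    rw [add_comm 1 e, Nat.choose_succ_self_right]
    push_cast
    ring
  · have := natDegree_hasseDeriv_le P e
    omega

/-- The next coefficient of the difference. -/
theorem coeff_diff_pred {P : ℚ[X]} {e : ℕ} (hP : P.natDegree ≤ e + 2) (h0 : 0 ≤ P.coeff (e + 2)) :
    (P - P.comp (X - C 1)).coeff e ≤ (e + 1) * P.coeff (e + 1) := by
  have h1 : (P - P.comp (X - C 1)).coeff e = (e + 1) * P.coeff (e + 1) - (e + 2).choose e * P.coeff (e + 2) := by
    rw [taylor_neg_one, coeff_sub, taylor_coeff, eval_eq_sum_range' (n := 3)]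
    · rw [Finset.sum_range_succ, Finset.sum_range_succ, Finset.sum_range_one, hasseDeriv_coeff, hasseDeriv_coeff,
        hasseDeriv_coeff]
      simp only [zero_add, Nat.choose_self, Nat.cast_one, one_mul, pow_zero, mul_one, pow_one]
      rw [add_comm 1 e, add_comm 2 e, Nat.choose_succ_self_right]
      push_cast
      ring
    · have := natDegree_hasseDeriv_le P e
      omega
  rw [h1]
  have : 0 ≤ ((e + 2).choose e : ℚ) * P.coeff (e + 2) := mul_nonneg (by positivity) h0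
  linarith

theorem bound (w δ : ℤ → ℕ) (h1 : ∀ t, w (t + 1) ≤ w t + δ t) (h2 : ∀ t, w (t + 1) ≠ 0 → w t < w (t + 1))
    (h2' : ∀ t, w t ≤ w (t + 1))
    (h3 : ∀ t, δ (t + 1) ≠ 0 → δ t < δ (t + 1)) (h3' : ∀ t, δ t ≤ δ (t + 1)) (t₀ : ℤ) :
    w t₀ ≤ δ t₀ ^ 2 := by
  have hd : ∀ j : ℕ, δ (t₀ - j) ≤ δ t₀ - j := by
    intro j
    induction j with
    | zero => simp
    | succ j ih =>
      have e : t₀ - (j : ℤ) = (t₀ - ((j + 1 : ℕ) : ℤ)) + 1 := by push_cast; ring
      rw [e] at ih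
      by_cases h : δ (t₀ - ((j + 1 : ℕ) : ℤ) + 1) = 0
      · have := h3' (t₀ - ((j + 1 : ℕ) : ℤ))
        omega
      · have := h3 _ h
        omega
  have hw0 : w (t₀ - δ t₀ + 1) = 0 := by
    by_contra h
    have h4 := h2 _ h
    have h5 := h1 (t₀ - δ t₀)
    have h6 := hd (δ t₀)
    omega
  have hw : ∀ j : ℕ, j + 1 ≤ δ t₀ → w (t₀ - δ t₀ + 1 + j) ≤ j * δ t₀ := by
    intro j
    induction j with
    | zero =>
      intro _
      rw [Nat.cast_zero, add_zero, hw0]
      exact Nat.zero_le _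
    | succ j ih =>
      intro hj
      have h4 := ih (by omega)
      have h5 := h1 (t₀ - δ t₀ + 1 + j)
      have e : t₀ - (δ t₀ : ℤ) + 1 + j = t₀ - ((δ t₀ - 1 - j : ℕ) : ℤ) := by omega
      have h6 := hd (δ t₀ - 1 - j)
      rw [← e] at h6
      have e2 : t₀ - (δ t₀ : ℤ) + 1 + ((j + 1 : ℕ) : ℤ) = t₀ - δ t₀ + 1 + j + 1 := by push_cast; ring
      rw [e2]
      calc w (t₀ - δ t₀ + 1 + j + 1) ≤ w (t₀ - δ t₀ + 1 + j) + δ (t₀ - δ t₀ + 1 + j) := h5
        _ ≤ j * δ t₀ + δ t₀ := by omega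
        _ = (j + 1) * δ t₀ := by ring
  rcases Nat.eq_zero_or_pos (δ t₀) with h0 | h0
  · -- `w (t₀ + 1) = 0`
    have h4 : w (t₀ + 1) = 0 := by
      rw [h0] at hw0
      simpa using hw0
    have h5 : w t₀ = 0 := by
      have := h2' t₀
      omega
    rw [h5]
    exact Nat.zero_le _
  · have h4 := hw (δ t₀ - 1) (by omega)
    have e : t₀ - (δ t₀ : ℤ) + 1 + ((δ t₀ - 1 : ℕ) : ℤ) = t₀ := by omega
    rw [e] at h4
    refine h4.trans ?_
    rw [sq]
    exact Nat.mul_le_mul_right _ (Nat.sub_le _ _)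

end K847.GLNum
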