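import Groth.Agent.ShStab.K847.Pn
import Groth.Agent.ShStab.K847.GLNum

/-!
# The Grothendieck lemma (namespace `K847.GL`)

`main`: for given `n`, `b`, `d` and bounds `a`, `c` there is a finite set of polynomials containing the Hilbert
polynomials of all pure `d`-dimensional quotients `G` of `O^b` on `P^n_k`, `k` an infinite field, whose Hilbert
polynomial has coefficients at most `a` in degree `d` and at most `c` in degree `d - 1`.
-/

set_option autoImplicit false
universe u
open CategoryTheory CategoryTheory.Limits AlgebraicGeometry TopologicalSpace Polynomial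

namespace K847.GL

open Groth.Agent Groth.Agent.Fdesc Groth.Agent.Fdesc.LocGen Groth.Agent.Fga.RegSec Groth.Agent.Fga.PicMon ShStab
  K847.StabBasic K847.AssPure K847.CutAlg K847.Cut K847.Lin K847.TwistSS K847.CurveVan Groth.Agent.VarietyB.EulerBinom
  Groth.Agent.FormalA.HHLin K847.Pn K847.GLNum K847.HilbBasic

/-- `χ(F(t)) = P(t)` for all integers `t`. -/
def HP (k : Type u) [Field k] {n : ℕ} (F : (CohB1.ProjSpace n k).Modules) (P : ℚ[X]) : Prop :=
  ∀ t : ℤ, (Curv2.euler k (CohB1.ProjSpace n k) (tw F t) : ℚ) = P.eval (t : ℚ)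

variable (k : Type u) [Field k] {n : ℕ}

theorem isHilbPoly_of_HP {F : (CohB1.ProjSpace n k).Modules} {P : ℚ[X]} (h : HP k F P) :
    IsHilbPoly k (CohB1.ProjSpace n k) (O k n 1) F P := by
  intro m
  have e : Nonempty (twist (CohB1.ProjSpace n k) (O k n 1) F m ≅ tw F (m : ℤ)) := by
    obtain ⟨e'⟩ := Ega3B.ProjFrame.nonempty_twistProjSpace_iso n k m
    rw [← mc_eq_iff, mc_tw, mc_eq e', mc_tensorPow]
    unfold ShStab.twist
    rw [mc_tensor, mc_tensorPow]
  rw [euler_congr k e.some, h (m : ℤ)]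
  simp

theorem HP_congr {F G : (CohB1.ProjSpace n k).Modules} (e : F ≅ G) {P : ℚ[X]} (h : HP k F P) : HP k G P := by
  intro t
  rw [← euler_congr k (tw_congr e t).some]
  exact h t

theorem HP_tw {F : (CohB1.ProjSpace n k).Modules} {P : ℚ[X]} (h : HP k F P) (a : ℤ) :
    HP k (tw F a) (P.comp (X + C (a : ℚ))) := by
  intro t
  rw [euler_congr k (tw_tw F a t).some, h, eval_comp]
  congr 1
  simp [add_comm]

/-- The dimension of the support of a pure module, possibly zero. -/
theorem dim_le_of_isPure {X : Scheme.{u}} {G : X.Modules} (hG : Coh.IsCoh G) {d : ℕ} (hp : IsPure X G d) :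
    topologicalKrullDim (CohB1.support G) ≤ (d : WithBot ℕ∞) := by
  by_cases h0 : IsZero G
  · rw [dim_support_isZero h0]; exact bot_le
  · exact (dim_support_eq_of_isPure hG h0 hp).le

theorem natDegree_le_of_isPure {G : (CohB1.ProjSpace n k).Modules} (hG : Coh.IsCoh G) {d : ℕ}
    (hp : IsPure _ G d) {P : ℚ[X]} (hP : HP k G P) : P.natDegree ≤ d :=
  natDegree_le k (isAmple_O_one k n).1 hG (dim_le_of_isPure hG hp) (isHilbPoly_of_HP k hP)

theorem coeff_nonneg_of_isPure {G : (CohB1.ProjSpace n k).Modules} (hG : Coh.IsCoh G) {d : ℕ}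
    (hp : IsPure _ G d) {P : ℚ[X]} (hP : HP k G P) : 0 ≤ P.coeff d := by
  by_cases h0 : IsZero G
  · rw [hilbPoly_eq_zero k h0 (isHilbPoly_of_HP k hP), coeff_zero]
  · exact (coeff_pos k (isAmple_O_one k n) hG (dim_support_eq_of_isPure hG h0 hp) (isHilbPoly_of_HP k hP)).le

/-- Multiplication by a general linear form: `h^0(F(t)) ≤ h^0(F(t+1))`. -/
theorem finrank_le [Infinite k] {F : (CohB1.ProjSpace n k).Modules} (hF : Coh.IsCoh F) (t : ℤ) :
    Module.finrank k (Coh.HH (CohB1.ProjSpace n k) (tw F t) 0) ≤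
      Module.finrank k (Coh.HH (CohB1.ProjSpace n k) (tw F (t + 1)) 0) := by
  have hNoeth := Fga.IntAdd.isNoetherian k (CohB1.ProjSpace n k)
  obtain ⟨e1⟩ := swap_tw k F t
  have hW : Coh.IsCoh (tw F t) := isCoh_tw hF t
  have hNW : Coh.IsCoh (CohB1.tensorMod (O k n 1) (tw F t)) := isCoh_tens (isAmple_O_one k n).1 hW
  obtain ⟨s, hs⟩ := exists_section_avoiding k (Coh.toGlobal ((CohB1.ProjSpace n k) ↘ Spec (CommRingCat.of k)))
    (isAmple_O_one k n).1 (exists_mem_genLocus k n) (AssSch.Ass (tw F t)) (SubFilt.finite_ass hW)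
  have hm := mono_mulS (isAmple_O_one k n).1 s hW hs
  rw [← (hmapEquiv k (CohB1.ProjSpace n k) e1 0).finrank_eq]
  exact finrank_H0_le_of_mono k (mulS s (tw F t)) hNW

/-- **The Grothendieck lemma.** -/
theorem main (n b : ℕ) (hb : 1 ≤ b) : ∀ (d : ℕ) (a c : ℚ), ∃ 𝒮 : Set ℚ[X], 𝒮.Finite ∧
    ∀ (k : Type u) [Field k] [Infinite k] (G : (CohB1.ProjSpace n k).Modules)
      (q : FlatMod.freeMod (CohB1.ProjSpace n k) b ⟶ G), Coh.IsCoh G → Epi q → IsPure _ G d →
      ∀ P : ℚ[X], HP k G P → P.coeff d ≤ a → (1 ≤ d → P.coeff (d - 1) ≤ c) → P ∈ 𝒮 := by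
  intro d
  induction d with
  | zero =>
    intro a c
    refine ⟨Set.range (fun m : Fin (⌊a⌋₊ + 1) => C ((m : ℕ) : ℚ)), Set.finite_range _, ?_⟩
    intro k _ _ G q hG hq hp P hP ha _
    have hdeg := natDegree_le_of_isPure k hG hp hP
    have hPC : P = C (P.coeff 0) := eq_C_of_natDegree_le_zero hdeg
    obtain ⟨r₀, hr₀⟩ := Fga.MumInputs.serre k n G hG
    have h1 := hP r₀
    have h2 := Fga.MumReg.euler_large G r₀ (hr₀ r₀ le_rfl)
    rw [h2, hPC, eval_C] at h1
    have h3 : (Module.finrank k (Coh.HH (CohB1.ProjSpace n k) (tw G r₀) 0) : ℚ) ≤ a := by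
      have h1' : (Module.finrank k (Coh.HH (CohB1.ProjSpace n k) (tw G r₀) 0) : ℚ) = P.coeff 0 := by exact_mod_cast h1
      rw [h1']; exact ha
    refine ⟨⟨Module.finrank k (Coh.HH (CohB1.ProjSpace n k) (tw G r₀) 0), ?_⟩, ?_⟩
    · exact Nat.lt_succ_of_le (Nat.le_floor h3)
    · rw [hPC]
      change C _ = _
      congr 1
  | succ e ih =>
    intro a c
    obtain ⟨𝒬, h𝒬, hIH⟩ := ih ((e + 1) * a) (e * c)
    let T : ℚ[X] → ℤ := fun Q => (exists_reg.{u} n b hb Q).choose
    refine ⟨_, finite_of_diff h𝒬 (fun Q => (T Q : ℚ) - 1)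
      (fun Q => max ((Q.eval (T Q : ℚ)) ^ 2) (Q.coeff 0 * ((T Q : ℚ) - 1) + c)), ?_⟩
    intro k _ _ G q hG hq hp P hP ha hc
    have hNoeth := Fga.IntAdd.isNoetherian k (CohB1.ProjSpace n k)
    have hdeg := natDegree_le_of_isPure k hG hp hP
    have hcn := coeff_nonneg_of_isPure k hG hp hP
    -- `W = G(-1)` and `N ⊗ W ≅ G`
    have hW : Coh.IsCoh (tw G (-1)) := isCoh_tw hG (-1)
    have hpW : IsPure _ (tw G (-1)) (e + 1) := isPure_tw hp (-1)
    obtain ⟨e1⟩ : Nonempty (CohB1.tensorMod (O k n 1) (tw G (-1)) ≅ G) := by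
      rw [← mc_eq_iff, mc_tensor, mc_tw, mul_left_comm, mc_O_mul, add_neg_cancel, mc_O_zero, mul_one]
    have hNW : Coh.IsCoh (CohB1.tensorMod (O k n 1) (tw G (-1))) := isCoh_tens (isAmple_O_one k n).1 hW
    obtain ⟨B, hB, hcut⟩ := exists_bad k (CohB1.ProjSpace n k) (isAmple_O_one k n) hW hpW
    obtain ⟨s, hs⟩ := exists_section_avoiding k (Coh.toGlobal ((CohB1.ProjSpace n k) ↘ Spec (CommRingCat.of k)))
      (isAmple_O_one k n).1 (exists_mem_genLocus k n) (AssSch.Ass (tw G (-1)) ∪ B) ((SubFilt.finite_ass hW).union hB)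
    have hm := mono_mulS (isAmple_O_one k n).1 s hW (Set.subset_union_left.trans hs)
    have hpD := hcut _ (isAmple_O_one k n).1 s hs
    have hD : Coh.IsCoh (cokernel (mulS s (tw G (-1)))) := isCoh_cokernel_mulS (isAmple_O_one k n).1 s hW
    let S : ShortComplex (CohB1.ProjSpace n k).Modules := ShortComplex.mk (mulS s (tw G (-1)))
      (cokernel.π (mulS s (tw G (-1)))) (cokernel.condition _)
    have hS : S.ShortExact := shortExact_cokernel _
    have he : ∀ t : ℤ, Nonempty (tw S.X₂ t ≅ tw S.X₁ (t + 1)) := by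
      intro t
      change Nonempty (tw (CohB1.tensorMod (O k n 1) (tw G (-1))) t ≅ tw (tw G (-1)) (t + 1))
      rw [← mc_eq_iff, mc_tw, mc_tensor, mc_tw (tw G (-1)) (t + 1), add_comm t 1, ← mc_O_mul k n 1 t,
        mul_comm (mc (O k n 1)) (mc (tw G (-1))), mul_assoc]
    -- Hilbert polynomial of `D`
    have hPW : HP k (tw G (-1)) (P.comp (X - C 1)) := by
      have h := HP_tw k hP (-1)
      rwa [Int.cast_neg, Int.cast_one, C_neg, ← sub_eq_add_neg] at h
    have hPD : HP k S.X₃ (P - P.comp (X - C 1)) := by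
      intro t
      have h1 := euler_obj_add k n hS hW hNW hD t
      have h2 := HP_congr k e1.symm hP t
      have h3 := hPW t
      rw [eval_sub, ← h2, ← h3]
      have h4 : ((Curv2.euler k (CohB1.ProjSpace n k) (tw S.X₂ t) : ℤ) : ℚ) =
          Curv2.euler k (CohB1.ProjSpace n k) (tw S.X₁ t) + Curv2.euler k (CohB1.ProjSpace n k) (tw S.X₃ t) := by
        exact_mod_cast h1
      exact (sub_eq_of_eq_add' h4).symm
    let q' : FlatMod.freeMod (CohB1.ProjSpace n k) b ⟶ S.X₃ := q ≫ e1.inv ≫ S.g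
    have hepi : Epi S.g := hS.epi_g
    have hq' : Epi q' := epi_comp _ _
    have hQ : P - P.comp (X - C 1) ∈ 𝒬 := by
      refine hIH k S.X₃ q' hD hq' hpD _ hPD ?_ ?_
      · rw [coeff_diff hdeg]
        exact mul_le_mul_of_nonneg_left ha (by positivity)
      · intro he1
        obtain ⟨e, rfl⟩ : ∃ e', e = e' + 1 := ⟨e - 1, by omega⟩
        have h1 := coeff_diff_pred (e := e) hdeg hcn
        have h2 := hc (by omega)
        rw [Nat.add_sub_cancel] at h2 ⊢
        refine h1.trans ?_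
        push_cast
        exact mul_le_mul_of_nonneg_left h2 (by positivity)
    refine ⟨_, hQ, rfl, ?_⟩
    set Q := P - P.comp (X - C 1) with hQdef
    have hreg := (exists_reg.{u} n b hb Q).choose_spec k S.X₃ q' hD hq' hPD
    have hreg' : ∀ t : ℤ, T Q ≤ t → (∀ i : ℕ, 1 ≤ i → Subsingleton (Coh.HH (CohB1.ProjSpace n k) (tw S.X₃ t) i)) ∧
        Function.Surjective (HHmap k (twm S.g t) 0) := by
      intro t ht
      refine ⟨(hreg t ht).1, fun x => ?_⟩
      obtain ⟨y, hy⟩ := (hreg t ht).2 x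
      refine ⟨HHmap k (twm (q ≫ e1.inv) t) 0 y, ?_⟩
      rw [HHmap_comp_apply]
      have h5 : twm (q ≫ e1.inv) t ≫ twm S.g t = twm q' t := by
        change (DCoh.tensorRightMod _).map _ ≫ (DCoh.tensorRightMod _).map _ = (DCoh.tensorRightMod _).map _
        rw [← Functor.map_comp, Category.assoc]
      rw [h5]
      exact hy
    have hvan := vanish k S hS hW he (T Q) hreg'
    have hχ := Fga.MumReg.euler_large (tw G (-1)) (T Q) (hvan (T Q) le_rfl)
    have hval : P.eval ((T Q : ℚ) - 1) =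
        (Module.finrank k (Coh.HH (CohB1.ProjSpace n k) (tw (tw G (-1)) (T Q)) 0) : ℚ) := by
      have h1 := hPW (T Q)
      rw [eval_comp] at h1
      simp only [eval_sub, eval_X, eval_C] at h1
      rw [← h1, hχ]
      simp
    refine ⟨(Module.finrank k (Coh.HH (CohB1.ProjSpace n k) (tw (tw G (-1)) (T Q)) 0) : ℤ), by positivity, ?_,
      by rw [hval]; simp⟩
    rcases Nat.eq_zero_or_pos e with he0 | he0
    · -- dimension one
      subst he0
      refine le_trans ?_ (le_max_right _ _)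
      have hdeg' : P.natDegree ≤ 1 := hdeg
      have hlin : ∀ x : ℚ, P.eval x = P.coeff 1 * x + P.coeff 0 := by
        intro x
        conv_lhs => rw [eq_X_add_C_of_natDegree_le_one hdeg']
        simp
      have hc0 : P.coeff 0 ≤ c := hc (by omega)
      have hQ0 : Q.coeff 0 = P.coeff 1 := by
        have h := coeff_diff (e := 0) hdeg'
        rw [hQdef, h]
        simp
      have h6 := hlin ((T Q : ℚ) - 1)
      rw [hval] at h6
      rw [hQ0]
      have h7 : (((Module.finrank k (Coh.HH (CohB1.ProjSpace n k) (tw (tw G (-1)) (T Q)) 0) : ℕ) : ℤ) : ℚ) =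
          P.coeff 1 * ((T Q : ℚ) - 1) + P.coeff 0 := by
        rw [← h6]; simp
      rw [h7]
      linarith
    · obtain ⟨e, rfl⟩ : ∃ e', e = e' + 1 := ⟨e - 1, by omega⟩
      refine le_trans ?_ (le_max_left _ _)
      have hχD := Fga.MumReg.euler_large S.X₃ (T Q) (hreg' (T Q) le_rfl).1
      have h1 := bound (fun t => Module.finrank k (Coh.HH (CohB1.ProjSpace n k) (tw (tw G (-1)) t) 0))
        (fun t => Module.finrank k (Coh.HH (CohB1.ProjSpace n k) (tw S.X₃ t) 0))
        (fun t => finrank_succ_le k S hS hW hNW hD he t)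
        (fun t h => finrank_lt k hW hpW t h)
        (fun t => finrank_le k hW t)
        (fun t h => finrank_lt k hD hpD t h)
        (fun t => finrank_le k hD t) (T Q)
      have h2 : Q.eval (T Q : ℚ) = (Module.finrank k (Coh.HH (CohB1.ProjSpace n k) (tw S.X₃ (T Q)) 0) : ℚ) := by
        rw [← hPD (T Q), hχD]
        simp
      rw [h2]
      exact_mod_cast h1

end K847.GL
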