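import Mathlib.RingTheory.Ideal.AssociatedPrime.Basic
import Mathlib.RingTheory.QuotSMulTop
import Mathlib.RingTheory.Regular.IsSMulRegular
import Mathlib.RingTheory.Noetherian.Basic

/-!
# Associated primes of `M / aM` and `M / bM` (namespace `K847.CutAlg`)
-/

set_option autoImplicit false

namespace K847.CutAlg

open Submodule

variable {R M : Type*} [CommRing R] [AddCommGroup M] [Module R M]

theorem isAssociatedPrime_iff' [IsNoetherianRing R] {p : Ideal R} :
    p ∈ associatedPrimes R M ↔ p.IsPrime ∧ ∃ x : M, ∀ r : R, r ∈ p ↔ r • x = 0 := by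
  rw [AssociatedPrimes.mem_iff, isAssociatedPrime_iff]
  refine and_congr_right fun _ => exists_congr fun x => ?_
  constructor
  · rintro rfl r
    rw [Submodule.mem_colon_singleton, Submodule.mem_bot]
  · intro h
    ext r
    rw [Submodule.mem_colon_singleton, Submodule.mem_bot, h]

theorem mk_eq_zero_iff {a : R} (x : M) : (Submodule.Quotient.mk x : QuotSMulTop a M) = 0 ↔ ∃ y : M, a • y = x := by
  rw [Submodule.Quotient.mk_eq_zero, Submodule.mem_smul_pointwise_iff_exists]
  simp

/-- If `a, b ∈ p` are both `M`-regular and `p` is associated to `M / aM`, then it is associated to `M / bM`. -/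
theorem mem_associatedPrimes_quotSMulTop [IsNoetherianRing R] {a b : R} (ha : IsSMulRegular M a)
    (hb : IsSMulRegular M b) {p : Ideal R} (hbp : b ∈ p)
    (h : p ∈ associatedPrimes R (QuotSMulTop a M)) : p ∈ associatedPrimes R (QuotSMulTop b M) := by
  rw [isAssociatedPrime_iff'] at h ⊢
  obtain ⟨hp, x, hx⟩ := h
  obtain ⟨x, rfl⟩ := Submodule.Quotient.mk_surjective _ x
  refine ⟨hp, ?_⟩
  have h1 := (hx b).mp hbp
  rw [← Submodule.Quotient.mk_smul, mk_eq_zero_iff] at h1
  obtain ⟨y, hy⟩ := h1
  refine ⟨Submodule.Quotient.mk y, fun r => ?_⟩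
  rw [hx r, ← Submodule.Quotient.mk_smul, ← Submodule.Quotient.mk_smul, mk_eq_zero_iff, mk_eq_zero_iff]
  constructor
  · rintro ⟨z, hz⟩
    -- `a z = r x`; `b r x = r a y`, so `a (b z) = b a z = b r x = r b x = r a y`
    refine ⟨z, ha ?_⟩
    change a • b • z = a • r • y
    rw [smul_comm a b z, hz, smul_comm b r x, ← hy, smul_comm r a y]
  · rintro ⟨z, hz⟩
    refine ⟨z, hb ?_⟩
    change b • a • z = b • r • x
    rw [smul_comm b a z, hz, smul_comm a r y, hy, smul_comm r b x]

theorem subsingleton_quotSMulTop_of_isUnit {a : R} (ha : IsUnit a) : Subsingleton (QuotSMulTop a M) := by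
  rw [Submodule.Quotient.subsingleton_iff, eq_top_iff]
  intro m _
  obtain ⟨u, rfl⟩ := ha
  exact (Submodule.mem_smul_pointwise_iff_exists _ _ _).mpr
    ⟨(↑u⁻¹ : R) • m, trivial, by rw [smul_smul, Units.mul_inv, one_smul]⟩

theorem not_mem_associatedPrimes_of_subsingleton [Subsingleton M] {p : Ideal R} : p ∉ associatedPrimes R M := by
  rw [associatedPrimes.eq_empty_of_subsingleton]
  exact Set.notMem_empty _

end K847.CutAlg
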