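import Groth.Agent.ShStab.K847.AssPure
import Groth.Agent.ShStab.K847.CutAlg
import Groth.Agent.Fga.HypSec
import Groth.Agent.S2324
import Groth.Agent.S4895
import Groth.Agent.Sga2.StalkTw
import Groth.Agent.Sga2.EszDepth
import Groth.Agent.S2085

/-!
# Hyperplane sections of pure modules (namespace `K847.Cut`)

* `exists_stalk_mulS`: on the stalks, `mulS s G : G ⟶ N ⊗ G` is multiplication by an element of the local ring.
* `exists_bad`: for `G` coherent on a proper scheme over a field, all whose associated points have closures of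
  dimension `e + 1`, there is a finite set `B` of points such that for every section `s` of an invertible module which
  generates at `Ass G ∪ B` the module `coker (mulS s G)` is pure of dimension `e`.
-/

set_option autoImplicit false
universe u
open CategoryTheory CategoryTheory.Limits AlgebraicGeometry TopologicalSpace

namespace K847.Cut

open Groth.Agent Groth.Agent.Fdesc Groth.Agent.Fdesc.LocGen Groth.Agent.Fga.RegSec ShStab K847.StabBasic K847.AssPure
  K847.CutAlg Groth.Agent.CycB.StalkExact

variable {X : Scheme.{u}}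

/-- On the stalks, `mulS s G` is multiplication by an element of the local ring. -/
theorem exists_stalk_mulS {N : X.Modules} (hN : PicF.IsInvertible N) (s : Coh.structureModule X ⟶ N)
    (G : X.Modules) (x : X) :
    ∃ (e : G.presheaf.stalk x ≃ₗ[X.presheaf.stalk x] (CohB1.tensorMod N G).presheaf.stalk x)
      (r : X.presheaf.stalk x), (x ∈ CohB1.genLocus N s ↔ IsUnit r) ∧
        ∀ m, stalkLin (mulS s G) x m = r • e m := by
  obtain ⟨V, e0, hxV, he⟩ := (isInvertible_iff N).mp hN x
  obtain ⟨a, ha⟩ := he.exists_eq (sec s V)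
  obtain ⟨e, hee⟩ := Sga2.StalkTw.exists_stalkEquiv G (CohB1.tensorMod N G) (V := V)
    (fun W h m => LocGen.tmul (res N h e0) m)
    (fun W h m m' => LocGen.tmul_add _ _ _) (fun W h r m => (LocGen.tmul_smul _ _ _))
    (fun W W' h h' m => by
      change res (CohB1.tensorMod N G) h' (LocGen.tmul (res N h e0) m) = _
      rw [res_tmul, res_res]
      rfl)
    (fun W h => tmul_left_bijective G he h) hxV
  refine ⟨e, X.presheaf.germ V x hxV a, ?_, ?_⟩
  · rw [← Scheme.mem_basicOpen _ _ _ hxV, ← genLocus_inf_eq s he ha]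
    exact ⟨fun h => ⟨h, hxV⟩, fun h => h.1⟩
  · intro m
    obtain ⟨W, hxW, hWV, m, rfl⟩ := Sga2.StalkTw.exists_germ_le G hxV m
    rw [hee W hWV hxW m, stalkLin_germ, mulS_app]
    have h1 : LocGen.tmul (sec s W) m = ores hWV a • LocGen.tmul (res N hWV e0) m := by
      rw [← res_sec s hWV, ha, res_smul, smul_tmul]
    rw [h1, germ_smul]
    congr 1
    exact TopCat.Presheaf.germ_res_apply _ _ _ _ _

/-- The stalks of the cokernel of `mulS s G`. -/
theorem exists_stalk_cokernel {N : X.Modules} (hN : PicF.IsInvertible N) (s : Coh.structureModule X ⟶ N)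
    (G : X.Modules) [Mono (mulS s G)] (x : X) :
    ∃ r : X.presheaf.stalk x, (x ∈ CohB1.genLocus N s ↔ IsUnit r) ∧ IsSMulRegular (G.presheaf.stalk x) r ∧
      Nonempty (QuotSMulTop r (G.presheaf.stalk x) ≃ₗ[X.presheaf.stalk x]
        (cokernel (mulS s G)).presheaf.stalk x) := by
  obtain ⟨e, r, hr, he⟩ := exists_stalk_mulS hN s G x
  refine ⟨r, hr, ?_, ⟨(QuotSMulTop.congr r e).trans (Sga2.EszDepth.cokernelStalkEquiv (mulS s G) x e r he)⟩⟩
  intro a b hab
  apply stalkLin_injective (mulS s G) x
  rw [he, he, ← map_smul, ← map_smul]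
  exact congrArg e hab

theorem mem_ass_iff_of_equiv {F : X.Modules} {x : X} {M : Type u} [AddCommGroup M] [Module (X.presheaf.stalk x) M]
    (e : M ≃ₗ[X.presheaf.stalk x] F.presheaf.stalk x) :
    x ∈ AssSch.Ass F ↔ IsLocalRing.maximalIdeal (X.presheaf.stalk x) ∈ associatedPrimes (X.presheaf.stalk x) M := by
  rw [LinearEquiv.AssociatedPrimes.eq e]
  rfl

theorem isCoh_tens {N G : X.Modules} (hN : PicF.IsInvertible N) (hG : Coh.IsCoh G) :
    Coh.IsCoh (CohB1.tensorMod N G) :=
  Sga67.CohBasic.isCoh_of_iso (Ega2.Tens.swap G _) (Fga.TwistCoh.isCoh_tensor hG hN)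

theorem mono_mulS [IsLocallyNoetherian X] {N G : X.Modules} (hN : PicF.IsInvertible N) (s : Coh.structureModule X ⟶ N)
    (hG : Coh.IsCoh G) (hA : AssSch.Ass G ⊆ CohB1.genLocus N s) : Mono (mulS s G) :=
  mulS_mono s G hG (Sga67.CohBasic.isCoh_kernel _ hG (isCoh_tens hN hG).1).1 hA

theorem isCoh_cokernel_mulS {N G : X.Modules} (hN : PicF.IsInvertible N) (s : Coh.structureModule X ⟶ N)
    (hG : Coh.IsCoh G) : Coh.IsCoh (cokernel (mulS s G)) :=
  Sga67.CohBasic.isCoh_cokernel _ hG.1 (isCoh_tens hN hG)

/-- A proper closed subset of the closure of a point has smaller dimension. -/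
theorem dim_closure_le_of_specializes {x y : X} (h : y ⤳ x) (hne : x ≠ y) (n : ℕ)
    (hy : topologicalKrullDim (closure ({y} : Set X)) ≤ ((n + 1 : ℕ) : WithBot ℕ∞)) :
    topologicalKrullDim (closure ({x} : Set X)) ≤ (n : WithBot ℕ∞) := by
  let D : Set (closure ({y} : Set X)) := Subtype.val ⁻¹' (closure ({x} : Set X))
  have hD : IsClosed D := isClosed_closure.preimage continuous_subtype_val
  have hirr : IrreducibleSpace (closure ({y} : Set X)) :=
    (isIrreducible_iff_irreducibleSpace).mp isIrreducible_singleton.closure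
  have h1 := Fga.DimCut.dim_le_of_forall_not_subset D hD (fun Z hZ hsub => by
    rw [irreducibleComponents_eq_singleton] at hZ
    rw [Set.mem_singleton_iff] at hZ
    subst hZ
    have h2 : (⟨y, subset_closure rfl⟩ : closure ({y} : Set X)) ∈ D := hsub trivial
    have h3 : y ∈ closure ({x} : Set X) := h2
    exact hne ((specializes_iff_mem_closure.mpr h3).antisymm h).eq) n hy
  refine le_trans ?_ h1
  have hsub : closure ({x} : Set X) ⊆ closure ({y} : Set X) := h.closure_subset
  let g : closure ({x} : Set X) → D := fun z => ⟨⟨z.1, hsub z.2⟩, z.2⟩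
  have hg : Topology.IsInducing g := by
    have e : Topology.IsInducing (fun x : closure ({x} : Set X) => x.1) := Topology.IsInducing.subtypeVal
    have e2 : Topology.IsInducing (fun d : D => (d.1 : X)) :=
      Topology.IsInducing.subtypeVal.comp Topology.IsInducing.subtypeVal
    exact (e2.of_comp_iff).mp e
  exact hg.topologicalKrullDim_le

section proper

variable (k : Type u) [Field k] (X : Scheme.{u}) [X.Over (Spec (CommRingCat.of k))]

include k in
/-- Lower semicontinuity of the rectified depth. -/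
theorem isOpen_depth [LocallyOfFiniteType (X ↘ Spec (CommRingCat.of k))] {F : X.Modules} (hF : Coh.IsCoh F) (n : ℕ) :
    IsOpen {x : X | (n : WithBot ℕ∞) ≤
      ((LocCoh.depth ↑(X.presheaf.stalk x) ↑(F.presheaf.stalk x) : ℕ∞) : WithBot ℕ∞) +
        topologicalKrullDim ↥(closure ({x} : Set X))} := by
  have hsub : Subsingleton (Spec (CommRingCat.of k)) := inferInstanceAs (Subsingleton (PrimeSpectrum k))
  refine S4895.result (fun s => ?_) (fun S' hS' s hs _ => ?_) (X ↘ Spec (CommRingCat.of k)) F hF n
  · have : IsRegularLocalRing (Localization.AtPrime s.asIdeal) := inferInstance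
    exact IsRegularLocalRing.of_ringEquiv (R' := (Spec (CommRingCat.of k)).presheaf.stalk s)
      (StructureSheaf.stalkIso k s).toRingEquiv
  · have h1 : S' = {t : (Spec (CommRingCat.of k)) | t ∈ S' ∧ t ⤳ s} := by
      ext t
      exact ⟨fun h => ⟨h, by rw [Subsingleton.elim t s]⟩, fun h => h.1⟩
    exact congrArg (fun T : Set (Spec (CommRingCat.of k)) => topologicalKrullDim T) h1

include k in
/-- **Generic hyperplane sections of pure modules are pure.** -/
theorem exists_bad [IsProper (X ↘ Spec (CommRingCat.of k))] {L : X.Modules} (hL : CohB1.IsAmple L) {G : X.Modules}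
    (hG : Coh.IsCoh G) {e : ℕ} (hp : IsPure X G (e + 1)) :
    ∃ B : Set X, B.Finite ∧ ∀ (N : X.Modules) (_ : PicF.IsInvertible N) (s : Coh.structureModule X ⟶ N),
      AssSch.Ass G ∪ B ⊆ CohB1.genLocus N s → IsPure X (cokernel (mulS s G)) e := by
  have hN := Fga.IntAdd.isNoetherian k X
  have hsep := Fga.HypSec.isSeparated k X
  have hGd := (isPure_iff hG).mp hp
  let U : X.Opens := ⟨_, isOpen_depth k X hG (e + 1)⟩
  obtain ⟨n, t, ht1, ht2, -⟩ := S2324.result X L hL (AssSch.Ass G) (SubFilt.finite_ass hG) U (fun x hx => by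
    change ((e + 1 : ℕ) : WithBot ℕ∞) ≤ _
    rw [hGd x hx]
    exact le_add_of_nonneg_left (by exact_mod_cast bot_le))
  have hLn : PicF.IsInvertible (CohB1.tensorPow L (n + 1)) := Fdesc.LocGen.isInvertible_tensorPow hL.1 _
  have hmt : Mono (mulS t G) := mono_mulS hLn t hG ht1
  refine ⟨AssSch.Ass (cokernel (mulS t G)), SubFilt.finite_ass (isCoh_cokernel_mulS hLn t hG), ?_⟩
  intro N hN s hs
  have hms : Mono (mulS s G) := mono_mulS hN s hG (Set.subset_union_left.trans hs)
  have hcs := isCoh_cokernel_mulS hN s hG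
  refine isPure_of_ass hcs.1 fun x hx => ?_
  have hNx : IsNoetherianRing (X.presheaf.stalk x) := inferInstance
  have hfin : Module.Finite (X.presheaf.stalk x) (G.presheaf.stalk x) := Ega1.FTStalkFin.stalk_finite G hG.2 x
  obtain ⟨r, hr, hreg, ⟨er⟩⟩ := exists_stalk_cokernel hN s G x
  obtain ⟨r', hr', hreg', ⟨er'⟩⟩ := exists_stalk_cokernel hLn t G x
  rw [mem_ass_iff_of_equiv er] at hx
  have hru : ¬ IsUnit r := fun h => by
    have := subsingleton_quotSMulTop_of_isUnit (M := G.presheaf.stalk x) h
    exact not_mem_associatedPrimes_of_subsingleton hx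
  have hrm : r ∈ IsLocalRing.maximalIdeal (X.presheaf.stalk x) := (IsLocalRing.mem_maximalIdeal r).mpr hru
  have hxs : x ∉ CohB1.genLocus N s := fun h => hru (hr.mp h)
  have hnt : Nontrivial (G.presheaf.stalk x) := by
    by_contra h
    rw [not_nontrivial_iff_subsingleton] at h
    exact not_mem_associatedPrimes_of_subsingleton hx
  have hxG : x ∈ CohB1.support G := fun h => not_subsingleton _ h
  -- upper bound
  obtain ⟨y, hy, hyx⟩ := exists_ass_specializes hG hxG
  have hne : x ≠ y := by
    rintro rfl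
    exact hxs (hs (Or.inl hy))
  have hup := dim_closure_le_of_specializes hyx hne e (hGd y hy).le
  refine le_antisymm hup ?_
  -- the depth of `G` at `x` is at most one
  have hd : ¬ ((1 + 1 : ℕ) : ℕ∞) ≤ LocCoh.depth (X.presheaf.stalk x) (G.presheaf.stalk x) := by
    intro h
    unfold LocCoh.depth at h
    rw [Localalg.Depth.natCast_succ_le_idealDepth_iff_quotSMulTop _ _ r hrm hreg 1] at h
    have hnq : Nontrivial (QuotSMulTop r (G.presheaf.stalk x)) := by
      by_contra h
      rw [not_nontrivial_iff_subsingleton] at h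
      exact not_mem_associatedPrimes_of_subsingleton hx
    exact (S2085.one_le_depth_iff.mp (by exact_mod_cast h)) hx
  by_cases hxt : x ∈ CohB1.genLocus _ t
  · have hxU : x ∈ U := ht2 hxt
    change ((e + 1 : ℕ) : WithBot ℕ∞) ≤ ((LocCoh.depth ↑(X.presheaf.stalk x) ↑(G.presheaf.stalk x) : ℕ∞) : WithBot ℕ∞) +
        topologicalKrullDim ↥(closure ({x} : Set X)) at hxU
    have h1 : LocCoh.depth (X.presheaf.stalk x) (G.presheaf.stalk x) ≤ 1 := by
      rw [not_le] at hd
      exact Order.le_of_lt_add_one (by exact_mod_cast hd)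
    have h2 : ((e + 1 : ℕ) : WithBot ℕ∞) ≤ topologicalKrullDim ↥(closure ({x} : Set X)) + 1 := by
      refine hxU.trans ?_
      rw [add_comm]
      exact add_le_add le_rfl (by exact_mod_cast h1)
    exact Fga.DimCut.le_of_add_one_le h2
  · exfalso
    have hru' : ¬ IsUnit r' := fun h => hxt (hr'.mpr h)
    have hrm' : r' ∈ IsLocalRing.maximalIdeal (X.presheaf.stalk x) := (IsLocalRing.mem_maximalIdeal r').mpr hru'
    have h1 := mem_associatedPrimes_quotSMulTop hreg hreg' hrm' hx
    rw [← mem_ass_iff_of_equiv er'] at h1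
    exact hxs (hs (Or.inr h1))

end proper

end K847.Cut
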