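import Groth.Agent.ShStab.K847.TwistSS
import Groth.Agent.LoccohA.OmFinal
import Groth.Agent.FormalA.HHLin

/-!
# Vanishing of `H^1` of twists of semistable modules in dimension one (namespace `K847.CurveVan`)
-/

set_option autoImplicit false
universe u
open CategoryTheory CategoryTheory.Limits AlgebraicGeometry Polynomial

namespace K847.CurveVan

open Groth.Agent K847.PolyOrd K847.HilbBasic K847.StabBasic K847.TwistSS StabCat ShStab

theorem exists_functional (k : Type*) [Field k] (V : Type*) [AddCommGroup V] [Module k V] [Nontrivial V] :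
    ∃ ψ : V →ₗ[k] k, ψ ≠ 0 := by
  obtain ⟨x, hx⟩ := exists_ne (0 : V)
  by_contra h
  push Not at h
  exact hx ((Module.forall_dual_apply_eq_zero_iff k x).mp fun ψ => by rw [h ψ]; rfl)

variable (k : Type u) [Field k] {X : Scheme.{u}} [X.Over (Spec (CommRingCat.of k))]

theorem HH0_injective {F G : X.Modules} (φ : F ⟶ G) [Mono φ] :
    Function.Injective (FormalA.HHLin.HHmap k φ 0) := by
  intro x y hxy
  apply (CurvesB.HZero.equivAdd F).injective
  apply PerfB.ModExact.app_injective_of_mono φ ⊤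
  rw [← CurvesB.HZero.equivAdd_map, ← CurvesB.HZero.equivAdd_map]
  exact congrArg _ hxy

variable [IsProper (X ↘ Spec (CommRingCat.of k))]

/-- `h^0` of a submodule is at most `h^0`. -/
theorem finrank_H0_le_of_mono {F G : X.Modules} (φ : F ⟶ G) [Mono φ] (hG : Coh.IsCoh G) :
    Module.finrank k (Coh.HH X F 0) ≤ Module.finrank k (Coh.HH X G 0) := by
  have : Module.Finite k (Coh.HH X G 0) := S0002.result k X G hG 0
  exact LinearMap.finrank_le_finrank_of_injective (f := FormalA.HHLin.HHmap k φ 0) (HH0_injective k φ)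

/-- In dimension at most one, `χ = h^0 - h^1`. -/
theorem euler_eq_of_dim_le_one (hX : topologicalKrullDim X ≤ (1 : WithBot ℕ∞)) (F : X.Modules) :
    Curv2.euler k X F = Module.finrank k (Coh.HH X F 0) - Module.finrank k (Coh.HH X F 1) := by
  rw [← Fga.IntAdd.eulerCharLE_eq k X 1 (by exact_mod_cast hX) F]
  unfold FGA.eulerCharLE
  rw [Finset.sum_range_succ, Finset.sum_range_one]
  ring

theorem euler_le_H0 (hX : topologicalKrullDim X ≤ (1 : WithBot ℕ∞)) (F : X.Modules) :
    Curv2.euler k X F ≤ Module.finrank k (Coh.HH X F 0) := by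
  rw [euler_eq_of_dim_le_one k hX F]
  omega

omit [IsProper (X ↘ Spec (CommRingCat.of k))] in
theorem eval_zero_eq {L F : X.Modules} {P : ℚ[X]} (hP : IsHilbPoly k X L F P) :
    P.eval 0 = (Curv2.euler k X F : ℚ) := by
  have h := hP 0
  obtain ⟨e0⟩ : Nonempty (ShStab.twist X L F 0 ≅ F) := by
    rw [← Fga.PicMon.mc_eq_iff]
    unfold ShStab.twist
    rw [Fga.PicMon.mc_tensor, Fga.PicMon.mc_tensorPow, pow_zero, mul_one]
  rw [euler_congr k e0] at h
  rw [h]
  simp

omit [IsProper (X ↘ Spec (CommRingCat.of k))] in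
theorem isInt_eval {L F : X.Modules} {P : ℚ[X]} (hP : IsHilbPoly k X L F P) (m : ℕ) :
    ∃ z : ℤ, P.eval (m : ℚ) = (z : ℚ) := ⟨_, (hP m).symm⟩

omit [IsProper (X ↘ Spec (CommRingCat.of k))] in
/-- A positive multiplicity in dimension one is at least one. -/
theorem one_le_coeff_one {L F : X.Modules} {P : ℚ[X]} (hP : IsHilbPoly k X L F P) (hd : P.natDegree ≤ 1)
    (hpos : 0 < P.coeff 1) : 1 ≤ P.coeff 1 := by
  obtain ⟨a, ha⟩ := isInt_eval k hP 0
  obtain ⟨b, hb⟩ := isInt_eval k hP 1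
  rw [eval_eq_sum_range' (n := 2) (by omega)] at ha hb
  simp only [Finset.sum_range_succ, Finset.sum_range_zero, zero_add, Nat.cast_zero, Nat.cast_one, pow_zero,
    mul_one, pow_one, mul_zero, add_zero] at ha hb
  have h1 : P.coeff 1 = ((b - a : ℤ) : ℚ) := by push_cast; linarith
  rw [h1] at hpos ⊢
  exact_mod_cast hpos

/-- The quotient of a semistable module satisfies the reverse inequality. -/
theorem redLE_quotient {L E Q : X.Modules} (hL : PicF.IsInvertible L) {d : ℕ} (hE : IsSemistable k X L E d)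
    (π : E ⟶ Q) [Epi π] (hQ : Coh.IsCoh Q) (hQ0 : ¬ IsZero Q) {pE pQ : ℚ[X]} (hpE : IsHilbPoly k X L E pE)
    (hpQ : IsHilbPoly k X L Q pQ) : RedLE d pE pQ := by
  have hK : Coh.IsCoh (kernel π) := isCoh_kernel' k π hE.1 hQ
  obtain ⟨pK, hpK⟩ := exists_hilbPoly k hL hK
  have hadd := hilbPoly_add k hL _ (shortExact_kernel π) hK hE.1 hQ hpK hpE hpQ
  by_cases hK0 : IsZero (kernel π)
  · rw [hilbPoly_eq_zero k hK0 hpK, zero_add] at hadd
    rw [hadd]
    exact redLE_refl _
  · have hiso : ¬ IsIso (kernel.ι π) := by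
      intro hi
      have h1 : π = 0 := by
        have := kernel.condition π
        rwa [← cancel_epi (kernel.ι π), Limits.comp_zero]
      exact hQ0 ((IsZero.iff_id_eq_zero Q).mpr ((cancel_epi π).mp (by rw [h1, Limits.zero_comp, Limits.zero_comp])))
    have h1 := hE.2.2.2 (kernel π) (kernel.ι π) inferInstance hK hK0 hiso pK pE hpK hpE
    rw [hadd, redLE_add_left_iff] at h1
    rw [hadd, redLE_add_right_iff]
    exact h1

/-- **Uniform vanishing of `H^1`** for semistable modules of dimension one with given Hilbert polynomial. -/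
theorem exists_vanish {L M : X.Modules} (hL : CohB1.IsAmple L)
    (hLM : Nonempty (CohB1.tensorMod L M ≅ Coh.structureModule X))
    (hX : topologicalKrullDim X ≤ (1 : WithBot ℕ∞)) (P : ℚ[X]) :
    ∃ j₀ : ℕ, ∀ E : X.Modules, IsSemistable k X L E 1 → IsHilbPoly k X L E P → ∀ j : ℕ, j₀ ≤ j →
      Subsingleton (Coh.HH X (twist X L E j) 1) := by
  have hN := Fga.IntAdd.isNoetherian k X
  obtain ⟨ω, t, hω, hdual⟩ := LoccohA.OmFinal.main (k := k) (X := X) 1 (by exact_mod_cast hX)
  set c : ℕ := Module.finrank k (Coh.HH X ω 0) with hc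
  obtain ⟨j₀, hj₀⟩ : ∃ j₀ : ℕ, 0 < P.coeff 1 → ∀ j : ℕ, j₀ ≤ j → P.coeff 1 * c < P.coeff 0 + P.coeff 1 * j := by
    by_cases h0 : 0 < P.coeff 1
    · obtain ⟨N, hN⟩ := exists_nat_gt ((P.coeff 1 * c - P.coeff 0) / P.coeff 1)
      refine ⟨N, fun _ j hj => ?_⟩
      rw [div_lt_iff₀ h0] at hN
      have h1 : (N : ℚ) ≤ j := by exact_mod_cast hj
      nlinarith
    · exact ⟨0, fun h => absurd h h0⟩
  refine ⟨j₀, fun E hE hP j hj => ?_⟩
  by_contra hns
  rw [not_subsingleton_iff_nontrivial] at hns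
  have hF := isSemistable_twist k hLM hE j
  have hpF := isHilbPoly_twist k hP j
  have hdE := dim_support_eq_of_isPure hE.1 hE.2.1 hE.2.2.1
  have hdegP : P.natDegree ≤ 1 := natDegree_le k hL.1 hE.1 hdE.le hP
  have hposP : 0 < P.coeff 1 := coeff_pos k hL hE.1 hdE hP
  set F := twist X L E j with hFdef
  -- a nonzero functional
  obtain ⟨ψ, hψ⟩ : ∃ ψ : Coh.HH X F 1 →ₗ[k] k, ψ ≠ 0 := by
    exact exists_functional k (Coh.HH X F 1)
  obtain ⟨φ, hφ, -⟩ := hdual F hF.1.1 ψ
  have hφ0 : φ ≠ 0 := by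
    rintro rfl
    apply hψ
    ext x
    rw [hφ x]
    have h2 : Sheaf.H.map ((SheafOfModules.toSheaf X.ringCatSheaf).map (0 : F ⟶ ω)) 1 x = 0 := by
      have h3 : (SheafOfModules.toSheaf X.ringCatSheaf).map (0 : F ⟶ ω) = 0 := rfl
      rw [h3]
      have := Sheaf.H.map_add_apply (0 : Coh.toAb F ⟶ Coh.toAb ω) 0 x
      rw [add_zero] at this
      exact (left_eq_add.mp this)
    exact (congrArg t h2).trans (map_zero t)
  -- the image
  let Q : X.Modules := Abelian.coimage φ
  let π : F ⟶ Q := Abelian.coimage.π φ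
  let i : Q ⟶ ω := Abelian.factorThruCoimage φ
  have hi : Mono i := inferInstanceAs (Mono (Abelian.factorThruCoimage φ))
  have hπ : Epi π := inferInstanceAs (Epi (Abelian.coimage.π φ))
  have hπi : π ≫ i = φ := Abelian.coimage.fac φ
  have hQ : Coh.IsCoh Q := isCoh_cokernel' k (kernel.ι φ) (isCoh_kernel' k φ hF.1 hω) hF.1
  have hQ0 : ¬ IsZero Q := fun hz => hφ0 (by rw [← hπi, hz.eq_of_tgt π 0, Limits.zero_comp])
  obtain ⟨pQ, hpQ⟩ := exists_hilbPoly k hL.1 hQ
  -- `Q` has dimension one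
  have hdQle : topologicalKrullDim (CohB1.support Q) ≤ (1 : ℕ) :=
    (dim_support_le_of_epi π).trans (by rw [dim_support_eq_of_isPure hF.1 hF.2.1 hF.2.2.1])
  have hdQ : topologicalKrullDim (CohB1.support Q) = ((1 : ℕ) : WithBot ℕ∞) := by
    obtain ⟨e, he⟩ := exists_dim_support_eq k hQ0
    rw [he] at hdQle ⊢
    have he1 : e ≤ 1 := by exact_mod_cast hdQle
    interval_cases e
    · exfalso
      have hs : Subsingleton (Coh.HH X Q 1) := S1526.result k X Q hQ (by rw [he]; simp) 1 le_rfl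
      obtain ⟨φ', -, huniq⟩ := hdual Q hQ.1 0
      have h1 : i = 0 := by
        rw [huniq i (fun x => by rw [Subsingleton.elim x 0]; simp),
          huniq 0 (fun x => by rw [Subsingleton.elim x 0]; simp)]
      exact hφ0 (by rw [← hπi, h1, Limits.comp_zero])
    · rfl
  have hdegQ : pQ.natDegree ≤ 1 := natDegree_le k hL.1 hQ hdQ.le hpQ
  have hposQ : 0 < pQ.coeff 1 := coeff_pos k hL hQ hdQ hpQ
  have h1Q := one_le_coeff_one k hpQ hdegQ hposQ
  -- the inequality
  have hred := redLE_quotient k hL.1 hF π hQ hQ0 hpF hpQ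
  set pF := P.comp (Polynomial.X + C (j : ℚ)) with hpFdef
  have hdegF : pF.natDegree ≤ 1 := by rw [hpFdef, natDegree_comp_X_add]; exact hdegP
  have hc1 : pF.coeff 1 = P.coeff 1 := coeff_comp_X_add hdegP _
  have hc0 : pF.coeff 0 = P.coeff 0 + P.coeff 1 * j := by
    rw [coeff_zero_eq_eval_zero, hpFdef, eval_comp, eval_eq_sum_range' (n := 2) (by omega)]
    simp [Finset.sum_range_succ]
  obtain ⟨N, hNle⟩ := hred
  have h3 := hNle N le_rfl
  unfold alpha at h3
  rw [eval_smul, eval_smul, eval_eq_sum_range' (n := 2) (p := pF) (by omega),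
    eval_eq_sum_range' (n := 2) (p := pQ) (by omega)] at h3
  simp only [Finset.sum_range_succ, Finset.sum_range_zero, zero_add, pow_zero, mul_one, pow_one,
    Nat.factorial_one, Nat.cast_one, one_mul, smul_eq_mul] at h3
  rw [hc1, hc0] at h3
  have h4 : pQ.coeff 1 * (P.coeff 0 + P.coeff 1 * j) ≤ P.coeff 1 * pQ.coeff 0 := by nlinarith
  have h5 : pQ.coeff 0 ≤ c := by
    rw [coeff_zero_eq_eval_zero, eval_zero_eq k hpQ]
    have h6 := euler_le_H0 k hX Q
    have h7 := finrank_H0_le_of_mono k i hω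
    have h8 : Curv2.euler k X Q ≤ (c : ℤ) := h6.trans (by exact_mod_cast h7)
    exact_mod_cast h8
  have h6 := hj₀ hposP j hj
  have hc' : (0 : ℚ) ≤ c := by positivity
  have h7 : P.coeff 1 * pQ.coeff 0 ≤ P.coeff 1 * c := mul_le_mul_of_nonneg_left h5 hposP.le
  have h8 : 0 ≤ P.coeff 0 + P.coeff 1 * j := le_of_lt (lt_of_le_of_lt (mul_nonneg hposP.le hc') h6)
  have h9 : P.coeff 0 + P.coeff 1 * j ≤ pQ.coeff 1 * (P.coeff 0 + P.coeff 1 * j) := by nlinarith
  linarith

end K847.CurveVan
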