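import Groth.Agent.ShStab.K847.GL

/-!
# The Grothendieck lemma for quotients of `O(-ρ)^b` (namespace `K847.GLTwist`)
-/

set_option autoImplicit false
universe u
open CategoryTheory CategoryTheory.Limits AlgebraicGeometry TopologicalSpace Polynomial

namespace K847.GLTwist

open Groth.Agent Groth.Agent.Fga.PicMon ShStab K847.Pn K847.GL StabCat

theorem coeff_comp_top {P : ℚ[X]} {d : ℕ} (hP : P.natDegree ≤ d) (r : ℚ) :
    (P.comp (X + C r)).coeff d = P.coeff d := by
  have h1 : P.comp (X + C r) = taylor r P := rfl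
  rw [h1, taylor_coeff, eval_eq_sum_range' (n := 1)]
  · rw [Finset.sum_range_one, hasseDeriv_coeff]
    simp
  · have := natDegree_hasseDeriv_le P d
    omega

theorem coeff_comp_pred {P : ℚ[X]} {d : ℕ} (hP : P.natDegree ≤ d + 1) (r : ℚ) :
    (P.comp (X + C r)).coeff d = P.coeff d + (d + 1) * r * P.coeff (d + 1) := by
  have h1 : P.comp (X + C r) = taylor r P := rfl
  rw [h1, taylor_coeff, eval_eq_sum_range' (n := 2)]
  · rw [Finset.sum_range_succ, Finset.sum_range_one, hasseDeriv_coeff, hasseDeriv_coeff]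
    simp only [zero_add, Nat.choose_self, Nat.cast_one, one_mul, pow_zero, mul_one, pow_one]
    rw [add_comm 1 d, Nat.choose_succ_self_right]
    push_cast
    ring
  · have := natDegree_hasseDeriv_le P d
    omega

/-- **The Grothendieck lemma** for quotients of `O(-ρ)^b`: finitely many Hilbert polynomials of pure `d`-dimensional
quotients with bounded multiplicity and slope. -/
theorem twisted (n b : ℕ) (hb : 1 ≤ b) (ρ : ℤ) (d : ℕ) (a₀ μ₀ : ℚ) : ∃ 𝒮 : Set ℚ[X], 𝒮.Finite ∧
    ∀ (k : Type u) [Field k] [Infinite k] (G : (CohB1.ProjSpace n k).Modules)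
      (q : tw (FlatMod.freeMod (CohB1.ProjSpace n k) b) (-ρ) ⟶ G), Coh.IsCoh G → Epi q →
      IsPure (CohB1.ProjSpace n k) G d →
      ∀ P : ℚ[X], HP k G P → alpha d P ≤ a₀ → (1 ≤ d → hatSlope d P ≤ μ₀) → P ∈ 𝒮 := by
  obtain ⟨𝒮, h𝒮, hmain⟩ := main.{u} n b hb d (a₀ / d.factorial)
    (max 0 μ₀ * a₀ / (d - 1).factorial + d * |(ρ : ℚ)| * (a₀ / d.factorial))
  refine ⟨(fun Q : ℚ[X] => Q.comp (X - C (ρ : ℚ))) '' 𝒮, h𝒮.image _, ?_⟩
  intro k _ _ G q hG hq hp P hP ha hμ
  have hfd : (0 : ℚ) < d.factorial := by exact_mod_cast d.factorial_pos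
  have hfd' : (0 : ℚ) < (d - 1).factorial := by exact_mod_cast (d - 1).factorial_pos
  have hdeg := natDegree_le_of_isPure k hG hp hP
  have hcn := coeff_nonneg_of_isPure k hG hp hP
  have hα : alpha d P = d.factorial * P.coeff d := rfl
  have hα0 : 0 ≤ alpha d P := by rw [hα]; positivity
  have ha0 : 0 ≤ a₀ := hα0.trans ha
  have hcd : P.coeff d ≤ a₀ / d.factorial := by
    rw [le_div_iff₀ hfd, mul_comm]; exact ha
  obtain ⟨e⟩ : Nonempty (FlatMod.freeMod (CohB1.ProjSpace n k) b ≅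
      tw (tw (FlatMod.freeMod (CohB1.ProjSpace n k) b) (-ρ)) ρ) := by
    rw [← mc_eq_iff, mc_tw, mc_tw, mul_assoc, mc_O_mul, neg_add_cancel, mc_O_zero, mul_one]
  have hepi : Epi (twm q ρ) := by
    have : (DCoh.tensorRightMod (O k n ρ)).PreservesEpimorphisms := inferInstance
    exact this.preserves q
  have hq' : Epi (e.hom ≫ twm q ρ) := epi_comp _ _
  have h1 := hmain k (tw G ρ) (e.hom ≫ twm q ρ) (isCoh_tw hG ρ) hq' (isPure_tw hp ρ) _ (HP_tw k hP ρ) ?_ ?_
  · refine ⟨_, h1, ?_⟩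
    change (P.comp (X + C (ρ : ℚ))).comp (X - C (ρ : ℚ)) = P
    rw [comp_assoc]
    simp
  · rw [coeff_comp_top hdeg]
    exact hcd
  · intro hd
    obtain ⟨e, rfl⟩ : ∃ e, d = e + 1 := ⟨d - 1, by omega⟩
    have hμ' := hμ hd
    rw [Nat.add_sub_cancel] at hfd' ⊢
    rw [coeff_comp_pred hdeg]
    have hb1 : alpha e P ≤ max 0 μ₀ * a₀ := by
      by_cases hz : IsZero G
      · have hP0 : P = 0 := K847.HilbBasic.hilbPoly_eq_zero k hz (isHilbPoly_of_HP k hP)
        have h3 : alpha e P = 0 := by rw [hP0]; simp [alpha]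
        rw [h3]
        exact mul_nonneg (le_max_left _ _) ha0
      · have h0 : alpha (e + 1) P ≠ 0 := by
          have h4 := K847.HilbBasic.coeff_pos k (isAmple_O_one k n) hG
            (K847.StabBasic.dim_support_eq_of_isPure hG hz hp) (isHilbPoly_of_HP k hP)
          rw [hα]
          positivity
        have hpos : 0 < alpha (e + 1) P := lt_of_le_of_ne hα0 (Ne.symm h0)
        have h2 : alpha e P = hatSlope (e + 1) P * alpha (e + 1) P := by
          unfold hatSlope
          rw [Nat.add_sub_cancel, div_mul_cancel₀ _ h0]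
        rw [h2]
        calc hatSlope (e + 1) P * alpha (e + 1) P ≤ max 0 μ₀ * alpha (e + 1) P :=
              mul_le_mul_of_nonneg_right (hμ'.trans (le_max_right _ _)) hα0
          _ ≤ max 0 μ₀ * a₀ := mul_le_mul_of_nonneg_left ha (le_max_left _ _)
    have hb2 : P.coeff e ≤ max 0 μ₀ * a₀ / e.factorial := by
      rw [le_div_iff₀ hfd', mul_comm]
      exact hb1
    have hb3 : ((e : ℚ) + 1) * (ρ : ℚ) * P.coeff (e + 1) ≤ ((e : ℚ) + 1) * |(ρ : ℚ)| * (a₀ / (e + 1).factorial) := by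
      have h3 : ((e : ℚ) + 1) * (ρ : ℚ) * P.coeff (e + 1) ≤ ((e : ℚ) + 1) * |(ρ : ℚ)| * P.coeff (e + 1) := by
        apply mul_le_mul_of_nonneg_right _ hcn
        apply mul_le_mul_of_nonneg_left (le_abs_self _) (by positivity)
      refine h3.trans ?_
      apply mul_le_mul_of_nonneg_left hcd (by positivity)
    push_cast at hb3 ⊢
    exact add_le_add hb2 hb3

end K847.GLTwist
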