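import Groth.Agent.ShStab.K847.Cut
import Groth.Agent.Pi1C.LefFinal
import Mathlib.GroupTheory.CosetCover

/-!
# General sections over an infinite field; growth of the number of sections (namespace `K847.Lin`)

* `exists_section_avoiding`: over an infinite field, a globally generated invertible module has a section generating
  at all points of a given finite set.
* `exists_not_surjective`: for a pure coherent module `W` of positive dimension on a proper scheme and a nonzero global
  section `b` of `N ⊗ W`, `N` ample and globally generated, there is a section `s` of `N` such that `W ⟶ N ⊗ W` is a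
  monomorphism and `b` is not of the form `s ⊗ c`.
-/

set_option autoImplicit false
universe u
open CategoryTheory CategoryTheory.Limits AlgebraicGeometry TopologicalSpace

namespace K847.Lin

open Groth.Agent Groth.Agent.Fdesc Groth.Agent.Fdesc.LocGen Groth.Agent.Fga.RegSec ShStab K847.StabBasic K847.AssPure
  K847.CutAlg K847.Cut Groth.Agent.CycB.StalkExact

variable {X : Scheme.{u}}

theorem mem_genLocus_homOf_iff {N : X.Modules} (t : Γ(N, ⊤)) {U : X.Opens} {e : Γ(N, U)} (he : IsGen e) {z : X}
    (hz : z ∈ U) {a : Γ(X, U)} (ha : res N le_top t = a • e) :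
    z ∈ CohB1.genLocus N (homOf t) ↔ IsUnit (X.presheaf.germ U z hz a) := by
  have h1 : sec (homOf t) U = a • e := by rw [sec_homOf]; exact ha
  rw [← Scheme.mem_basicOpen _ _ _ hz, ← genLocus_inf_eq (homOf t) he h1]
  exact ⟨fun h => ⟨h, hz⟩, fun h => h.1⟩

/-- Over an infinite field there are sections of a globally generated invertible module which generate at all points
of a given finite set. -/
theorem exists_section_avoiding (k : Type u) [Field k] [Infinite k] (φ : k →+* Γ(X, ⊤)) {N : X.Modules}
    (hN : PicF.IsInvertible N) (hgen : ∀ x : X, ∃ s : Coh.structureModule X ⟶ N, x ∈ CohB1.genLocus N s)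
    (Z : Set X) (hZ : Z.Finite) : ∃ s : Coh.structureModule X ⟶ N, Z ⊆ CohB1.genLocus N s := by
  classical
  let _ : Module k Γ(N, ⊤) := Module.compHom _ φ
  let V : X → Subspace k Γ(N, ⊤) := fun z =>
    { carrier := {t | z ∉ CohB1.genLocus N (homOf t)}
      zero_mem' := by
        obtain ⟨U, e, hz, he⟩ := (isInvertible_iff N).mp hN z
        change z ∉ CohB1.genLocus N (homOf (0 : Γ(N, ⊤)))
        rw [mem_genLocus_homOf_iff (0 : Γ(N, ⊤)) he hz (a := 0) (by rw [map_zero, zero_smul]), map_zero]
        exact not_isUnit_zero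
      add_mem' := by
        intro t t' ht ht'
        obtain ⟨U, e, hz, he⟩ := (isInvertible_iff N).mp hN z
        obtain ⟨a, ha⟩ := he.exists_eq (res N le_top t)
        obtain ⟨a', ha'⟩ := he.exists_eq (res N le_top t')
        change z ∉ CohB1.genLocus N (homOf t) at ht
        change z ∉ CohB1.genLocus N (homOf t') at ht'
        change z ∉ CohB1.genLocus N (homOf (t + t'))
        rw [mem_genLocus_homOf_iff _ he hz ha] at ht
        rw [mem_genLocus_homOf_iff _ he hz ha'] at ht'
        rw [mem_genLocus_homOf_iff _ he hz (a := a + a') (by rw [map_add, ha, ha', add_smul]), map_add]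
        exact IsLocalRing.nonunits_add ht ht'
      smul_mem' := by
        intro c t ht
        obtain ⟨U, e, hz, he⟩ := (isInvertible_iff N).mp hN z
        obtain ⟨a, ha⟩ := he.exists_eq (res N le_top t)
        change z ∉ CohB1.genLocus N (homOf t) at ht
        change z ∉ CohB1.genLocus N (homOf (φ c • t))
        rw [mem_genLocus_homOf_iff _ he hz ha] at ht
        rw [mem_genLocus_homOf_iff _ he hz (a := ores le_top (φ c) * a) (by rw [res_smul, ha, mul_smul]), map_mul]
        exact fun h => ht (isUnit_of_mul_isUnit_right h) }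
  have hV : (⊤ : Subspace k Γ(N, ⊤)) ∉ hZ.toFinset.image V := by
    intro htop
    obtain ⟨z, -, hVz⟩ := Finset.mem_image.1 htop
    obtain ⟨s, hs⟩ := hgen z
    have h1 : sec s ⊤ ∈ V z := by rw [hVz]; trivial
    apply h1
    rw [homOf_sec]
    exact hs
  have h2 := Subspace.biUnion_ne_univ_of_top_notMem hV
  obtain ⟨t, ht⟩ := (Set.ne_univ_iff_exists_notMem _).mp h2
  refine ⟨homOf t, fun z hz => ?_⟩
  by_contra hcon
  apply ht
  simp only [Set.mem_iUnion]
  exact ⟨V z, Finset.mem_image_of_mem V (hZ.mem_toFinset.mpr hz), hcon⟩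

/-- `n ↦ n ⊗ c`. -/
noncomputable def kap {N W : X.Modules} (c : Coh.structureModule X ⟶ W) : N ⟶ CohB1.tensorMod N W :=
  (Ega2.Tens.runit N).inv ≫ Ega2.Tens.mapT (𝟙 N) c

theorem kap_app {N W : X.Modules} (c : Coh.structureModule X ⟶ W) {U : X.Opens} (n : Γ(N, U)) :
    (kap (N := N) c).app U n = LocGen.tmul n (sec c U) := by
  have h1 : (kap (N := N) c).app U n = (Ega2.Tens.mapT (𝟙 N) c).app U ((Ega2.Tens.runit N).inv.app U n) := rfl
  rw [h1, Ega2.Tens.runit_inv_app]
  have h2 := CohqB.TwistMono.mapT_tmul' (𝟙 N) c n (one U)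
  exact h2

theorem comp_kap {N W : X.Modules} (s : Coh.structureModule X ⟶ N) (c : Coh.structureModule X ⟶ W) :
    s ≫ kap c = c ≫ mulS s W := by
  apply hom_ext_sec
  rw [sec_comp, sec_comp, kap_app, mulS_app]

/-- A morphism from an invertible module which is killed by a section generating at the associated points is zero. -/
theorem eq_zero_of_comp_eq_zero [IsLocallyNoetherian X] {N C : X.Modules} (hC : Coh.IsQCoh C)
    (s : Coh.structureModule X ⟶ N) (hA : AssSch.Ass C ⊆ CohB1.genLocus N s) (κ : N ⟶ C) (h : s ≫ κ = 0) : κ = 0 := by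
  rw [CohqA.DevSub.eq_zero_iff]
  intro V n
  have hinj := CohqA.AssInj.res_injective hC (inf_le_left : V ⊓ CohB1.genLocus N s ≤ V)
    (fun x hx hxV => ⟨hxV, hA hx⟩)
  apply hinj
  rw [map_zero]
  have hg : IsGen (res N inf_le_right (sec s (CohB1.genLocus N s)) : Γ(N, V ⊓ CohB1.genLocus N s)) :=
    (isGen_sec_genLocus s).res _
  obtain ⟨a, ha⟩ := hg.exists_eq (res N inf_le_left n)
  have h1 : κ.app (V ⊓ CohB1.genLocus N s) (res N inf_le_left n) = 0 := by
    rw [ha, res_sec]
    have h2 : κ.app (V ⊓ CohB1.genLocus N s) (sec s (V ⊓ CohB1.genLocus N s)) = 0 := by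
      rw [← sec_comp, h]; rfl
    have h3 := Scheme.Modules.Hom.app_smul κ a (sec s (V ⊓ CohB1.genLocus N s))
    rw [h3, h2, smul_zero]
  rw [app_res] at h1
  exact h1

/-- The stalks of a morphism from the structure sheaf. -/
theorem stalkLin_structure {F : X.Modules} (b : Coh.structureModule X ⟶ F) (x : X)
    (t : (Coh.structureModule X).presheaf.stalk x) :
    ∃ a : X.presheaf.stalk x, stalkLin b x t = a • F.presheaf.germ ⊤ x trivial (sec b ⊤) := by
  obtain ⟨U, hxU, t, rfl⟩ := TopCat.Presheaf.exists_germ_eq (Coh.structureModule X).presheaf t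
  obtain ⟨r, rfl⟩ := (ofFun (U := U)).surjective t
  refine ⟨X.presheaf.germ U x hxU r, ?_⟩
  rw [stalkLin_germ, app_ofFun, germ_smul, ← res_sec b (le_top : U ≤ ⊤)]
  congr 1
  exact TopCat.Presheaf.germ_res_apply _ _ _ _ _

section proper

variable (k : Type u) [Field k] (X : Scheme.{u}) [X.Over (Spec (CommRingCat.of k))]
  [IsProper (X ↘ Spec (CommRingCat.of k))]

include k in
/-- A nonzero coherent module which is pure of positive dimension has no support in an affine open set. -/
theorem not_support_subset {G : X.Modules} (hG : Coh.IsCoh G) (h0 : ¬ IsZero G) {e : ℕ} (hp : IsPure X G (e + 1))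
    {N : X.Modules} (hN : PicF.IsInvertible N) (s : Coh.structureModule X ⟶ N)
    (haff : IsAffineOpen (CohB1.genLocus N s)) : ¬ CohB1.support G ⊆ CohB1.genLocus N s := by
  intro hsub
  have hNoeth := Fga.IntAdd.isNoetherian k X
  have hd := dim_support_eq_of_isPure hG h0 hp
  have h1 := Fga.DimCut.dim_cut k X (CohB1.support G) (S0020.result X G hG.2) e hd (CohB1.genLocus N s) haff
    (fun x hx => by
      obtain ⟨U, hxU, e, a, -, -, h, -⟩ := exists_gen_of_not_mem s hN hx
      exact ⟨U, hxU, a, h⟩)
    (fun Z hZ => by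
      obtain ⟨z, hz⟩ := hZ.1.nonempty
      exact ⟨z, hz, hsub z.2⟩)
  have h2 : (CohB1.support G \ (CohB1.genLocus N s : Set X) : Set X) = ∅ := Set.sdiff_eq_empty.mpr hsub
  have h3 : topologicalKrullDim (CohB1.support G \ (CohB1.genLocus N s : Set X) : Set X) ≤ ⊥ := by
    have : IsEmpty (CohB1.support G \ (CohB1.genLocus N s : Set X) : Set X) := by
      rw [h2]; exact Set.isEmpty_coe_sort.mpr rfl
    refine iSup_le fun p => ?_
    obtain ⟨z, -⟩ := (p 0).2.nonempty
    exact (IsEmpty.false z).elim
  rw [h1] at h3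
  simp at h3

/-- **Growth.** For `W` coherent and pure of positive dimension and `b` a nonzero global section of `N ⊗ W` there is a
section `s` of `N` with `W ⟶ N ⊗ W` injective such that `b` is not divisible by `s`. -/
theorem exists_not_divisible [Infinite k] {N : X.Modules} (hN : CohB1.IsAmple N)
    (hgen : ∀ x : X, ∃ s : Coh.structureModule X ⟶ N, x ∈ CohB1.genLocus N s) {W : X.Modules} (hW : Coh.IsCoh W)
    {e : ℕ} (hp : IsPure X W (e + 1)) (hp' : IsPure X (CohB1.tensorMod N W) (e + 1))
    (b : Coh.structureModule X ⟶ CohB1.tensorMod N W) (hb : b ≠ 0) :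
    ∃ s : Coh.structureModule X ⟶ N, Mono (mulS s W) ∧ ∀ c : Coh.structureModule X ⟶ W, c ≫ mulS s W ≠ b := by
  have hNoeth := Fga.IntAdd.isNoetherian k X
  have hNW := isCoh_tens hN.1 hW
  have hC : Coh.IsCoh (cokernel b) := Sga67.CohBasic.isCoh_cokernel b (PerfA.QCohSerre.isQCoh_unit X) hNW
  obtain ⟨s, hs⟩ := exists_section_avoiding k (Coh.toGlobal (X ↘ Spec (CommRingCat.of k))) hN.1 hgen
    (AssSch.Ass W ∪ AssSch.Ass (cokernel b)) ((SubFilt.finite_ass hW).union (SubFilt.finite_ass hC))
  refine ⟨s, mono_mulS hN.1 s hW (Set.subset_union_left.trans hs), fun c hc => ?_⟩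
  -- `κ : N ⟶ N ⊗ W` maps into the image of `b`
  have h1 : kap (N := N) c ≫ cokernel.π b = 0 := by
    refine eq_zero_of_comp_eq_zero hC.1 s (Set.subset_union_right.trans hs) _ ?_
    rw [← Category.assoc, comp_kap, hc, cokernel.condition]
  -- the germ of `b` vanishes outside of the generating locus
  have h2 : ∀ x : X, x ∉ CohB1.genLocus N s →
      (CohB1.tensorMod N W).presheaf.germ ⊤ x trivial (sec b ⊤) = 0 := by
    intro x hx
    obtain ⟨U, hxU, e0, a, he0, ha, -, hmax⟩ := exists_gen_of_not_mem s hN.1 hx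
    have hex : Function.Exact (stalkLin b x) (stalkLin (cokernel.π b) x) :=
      stalkLin_exact (ShortComplex.mk b (cokernel.π b) (cokernel.condition _))
        (ShortComplex.exact_of_g_is_cokernel _ (cokernelIsCokernel _)) x
    obtain ⟨t, ht⟩ := (hex (stalkLin (kap (N := N) c) x (N.presheaf.germ U x hxU e0))).mp (by
      rw [← LinearMap.comp_apply, ← stalkLin_comp, h1]
      exact congrFun (congrArg DFunLike.coe (Dcoh.StalkMod.stalkLin_zero x)) _)
    obtain ⟨r, hr⟩ := stalkLin_structure b x t
    rw [hr, stalkLin_germ] at ht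
    -- `b = κ(s) = a κ(e)`
    have h3 : (CohB1.tensorMod N W).presheaf.germ ⊤ x trivial (sec b ⊤) =
        X.presheaf.germ U x hxU a • (CohB1.tensorMod N W).presheaf.germ U x hxU ((kap (N := N) c).app U e0) := by
      rw [← germ_smul, ← Scheme.Modules.Hom.app_smul, ← ha, ← sec_comp, comp_kap, hc,
        ← res_sec b (le_top : U ≤ ⊤)]
      exact (TopCat.Presheaf.germ_res_apply _ _ _ _ _).symm
    rw [← ht, smul_smul] at h3
    have h4 : (1 - X.presheaf.germ U x hxU a * r) • (CohB1.tensorMod N W).presheaf.germ ⊤ x trivial (sec b ⊤) = 0 := by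
      rw [sub_smul, one_smul, ← h3, sub_self]
    have h5 : IsUnit (1 - X.presheaf.germ U x hxU a * r) := by
      by_contra hcon
      have h6 : (1 - X.presheaf.germ U x hxU a * r) ∈ IsLocalRing.maximalIdeal (X.presheaf.stalk x) :=
        (IsLocalRing.mem_maximalIdeal _).mpr hcon
      have h7 := Ideal.add_mem _ h6 (Ideal.mul_mem_right r _ hmax)
      rw [sub_add_cancel] at h7
      exact (IsLocalRing.maximalIdeal.isMaximal (X.presheaf.stalk x)).ne_top ((Ideal.eq_top_iff_one _).mpr h7)
    exact h5.smul_eq_zero.mp h4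
  -- the image of `b`
  have hI : Coh.IsCoh (Abelian.image b) := Sga67.CohBasic.isCoh_image b (StructMod.isCoh_structureModule X) hNW.1
  have hI0 : ¬ IsZero (Abelian.image b) := fun h => hb (by
    rw [← Abelian.image.fac b, h.eq_of_tgt (Abelian.factorThruImage b) 0, Limits.zero_comp])
  have haff : IsAffineOpen (CohB1.genLocus N s) := Pi1C.LefFinal.isAffineOpen_genLocus (X ↘ Spec (CommRingCat.of k)) hN s
  refine not_support_subset k X hI hI0 (isPure_of_mono (Abelian.image.ι b) hp') hN.1 s haff fun x hx => ?_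
  by_contra hxs
  apply hx
  have hz := h2 x hxs
  refine ⟨fun p q => ?_⟩
  have key : ∀ p : (Abelian.image b).presheaf.stalk x, p = 0 := by
    intro p
    obtain ⟨t, rfl⟩ := stalkLin_surjective (Abelian.factorThruImage b) x p
    apply stalkLin_injective (Abelian.image.ι b) x
    rw [map_zero, ← LinearMap.comp_apply, ← stalkLin_comp, Abelian.image.fac]
    obtain ⟨r, hr⟩ := stalkLin_structure b x t
    rw [hr, hz, smul_zero]
  rw [key p, key q]

end proper

end K847.Lin
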