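import Groth.Agent.ShStab.K847.StabBasic
import Groth.Agent.PerfB.TensInv

/-!
# Twisting by powers of the polarisation (namespace `K847.TwistSS`)

`E ↦ E ⊗ L^j` is an equivalence when `L` is invertible with a given inverse; supports, purity, Hilbert
polynomials and semistability of the twists.
-/

set_option autoImplicit false
universe u
open CategoryTheory CategoryTheory.Limits AlgebraicGeometry Polynomial

namespace K847.TwistSS

open Groth.Agent Groth.Agent.Fga.PicMon K847.PolyOrd K847.HilbBasic K847.StabBasic StabCat ShStab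

section poly

variable {d : ℕ}

theorem comp_X_add_sub (P Q : ℚ[X]) (a : ℚ) :
    P.comp (X + C a) - Q.comp (X + C a) = (P - Q).comp (X + C a) := by rw [sub_comp]

theorem natDegree_comp_X_add (P : ℚ[X]) (a : ℚ) : (P.comp (X + C a)).natDegree = P.natDegree := by
  rw [natDegree_comp, natDegree_X_add_C, mul_one]

theorem leadingCoeff_comp_X_add (P : ℚ[X]) (a : ℚ) : (P.comp (X + C a)).leadingCoeff = P.leadingCoeff := by
  rw [leadingCoeff_comp (by rw [natDegree_X_add_C]; exact one_ne_zero), leadingCoeff_X_add_C, one_pow, mul_one]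

theorem polyLE_comp_X_add_iff (P Q : ℚ[X]) (a : ℚ) :
    PolyLE (P.comp (X + C a)) (Q.comp (X + C a)) ↔ PolyLE P Q := by
  rw [polyLE_iff, polyLE_iff, comp_X_add_sub, leadingCoeff_comp_X_add]

theorem polyLT_comp_X_add_iff (P Q : ℚ[X]) (a : ℚ) :
    PolyLT (P.comp (X + C a)) (Q.comp (X + C a)) ↔ PolyLT P Q := by
  rw [polyLT_iff, polyLT_iff, comp_X_add_sub, leadingCoeff_comp_X_add]

theorem coeff_comp_X_add {P : ℚ[X]} (hP : P.natDegree ≤ d) (a : ℚ) :
    (P.comp (X + C a)).coeff d = P.coeff d := by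
  rcases hP.eq_or_lt with h | h
  · have h1 : (P.comp (X + C a)).coeff (P.comp (X + C a)).natDegree = P.coeff P.natDegree :=
      leadingCoeff_comp_X_add P a
    rwa [natDegree_comp_X_add, h] at h1
  · rw [coeff_eq_zero_of_natDegree_lt h, coeff_eq_zero_of_natDegree_lt (by rwa [natDegree_comp_X_add])]

theorem alpha_comp_X_add {P : ℚ[X]} (hP : P.natDegree ≤ d) (a : ℚ) :
    alpha d (P.comp (X + C a)) = alpha d P := by
  unfold alpha
  rw [coeff_comp_X_add hP]

theorem redLE_comp_X_add_iff {P Q : ℚ[X]} (hP : P.natDegree ≤ d) (hQ : Q.natDegree ≤ d) (a : ℚ) :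
    RedLE d (P.comp (X + C a)) (Q.comp (X + C a)) ↔ RedLE d P Q := by
  unfold RedLE
  rw [alpha_comp_X_add hP, alpha_comp_X_add hQ, ← smul_comp, ← smul_comp, polyLE_comp_X_add_iff]

theorem redLT_comp_X_add_iff {P Q : ℚ[X]} (hP : P.natDegree ≤ d) (hQ : Q.natDegree ≤ d) (a : ℚ) :
    RedLT d (P.comp (X + C a)) (Q.comp (X + C a)) ↔ RedLT d P Q := by
  unfold RedLT
  rw [alpha_comp_X_add hP, alpha_comp_X_add hQ, ← smul_comp, ← smul_comp, polyLT_comp_X_add_iff]

end poly

section equiv

variable {X : Scheme.{u}}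

/-- `- ⊗ A` is an equivalence of categories if `A ⊗ B ≅ O`. -/
noncomputable def equivOfInv {A B : X.Modules} (e : CohB1.tensorMod A B ≅ Coh.structureModule X) :
    X.Modules ≌ X.Modules :=
  CategoryTheory.Equivalence.mk (DCoh.tensorRightMod A) (DCoh.tensorRightMod B)
    (PerfB.TensInv.tensorInvIso e).symm (PerfB.TensInv.tensorInvIso (Ega2.Tens.swap B A ≪≫ e))

theorem functor_obj {A B : X.Modules} (e : CohB1.tensorMod A B ≅ Coh.structureModule X) (F : X.Modules) :
    (equivOfInv e).functor.obj F = CohB1.tensorMod F A := rfl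

theorem inverse_obj {A B : X.Modules} (e : CohB1.tensorMod A B ≅ Coh.structureModule X) (F : X.Modules) :
    (equivOfInv e).inverse.obj F = CohB1.tensorMod F B := rfl

/-- The powers of an invertible module with inverse are invertible with inverse. -/
theorem exists_inv_tensorPow {L M : X.Modules} (h : Nonempty (CohB1.tensorMod L M ≅ Coh.structureModule X)) (j : ℕ) :
    Nonempty (CohB1.tensorMod (CohB1.tensorPow L j) (CohB1.tensorPow M j) ≅ Coh.structureModule X) := by
  rw [← mc_eq_iff, mc_tensor, mc_one] at h ⊢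
  rw [mc_tensorPow, mc_tensorPow, ← mul_pow, h, one_pow]

theorem isInvertible_right {A B : X.Modules} (h : Nonempty (CohB1.tensorMod A B ≅ Coh.structureModule X)) :
    PicF.IsInvertible B := Fga.IntAdd.isInvertible_of_tensor h.some

theorem isInvertible_left {A B : X.Modules} (h : Nonempty (CohB1.tensorMod A B ≅ Coh.structureModule X)) :
    PicF.IsInvertible A := Fga.IntAdd.isInvertible_of_tensor (Ega2.Tens.swap B A ≪≫ h.some)

theorem support_tensor_right {A B : X.Modules} (h : Nonempty (CohB1.tensorMod A B ≅ Coh.structureModule X))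
    (F : X.Modules) : CohB1.support (CohB1.tensorMod F A) = CohB1.support F := by
  have hA : PicF.IsInvertible A := isInvertible_left h
  have hB : PicF.IsInvertible B := isInvertible_right h
  refine (Fga.TwistCoh.support_tensor_subset hA).antisymm ?_
  obtain ⟨e⟩ : Nonempty (CohB1.tensorMod (CohB1.tensorMod F A) B ≅ F) := by
    rw [← mc_eq_iff, mc_tensor, mc_tensor, mul_assoc, ← mc_tensor, (mc_eq_iff _ _).mpr h, mc_one, mul_one]
  rw [← CohqB.DevSupport.support_congr e]
  exact Fga.TwistCoh.support_tensor_subset hB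

theorem isZero_tensor_right_iff {A B : X.Modules} (h : Nonempty (CohB1.tensorMod A B ≅ Coh.structureModule X))
    (F : X.Modules) : IsZero (CohB1.tensorMod F A) ↔ IsZero F := by
  constructor
  · intro hz
    refine CohqB.DevSupport.isZero_of_support_eq_empty ?_
    rw [← support_tensor_right h F]
    exact CohqB.DevSupport.support_eq_empty_of_isZero hz
  · intro hz
    refine CohqB.DevSupport.isZero_of_support_eq_empty ?_
    rw [support_tensor_right h F]
    exact CohqB.DevSupport.support_eq_empty_of_isZero hz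

/-- Submodules of `E ⊗ A` come from submodules of `E`. -/
theorem exists_mono_of_tensor {A B : X.Modules} (h : Nonempty (CohB1.tensorMod A B ≅ Coh.structureModule X))
    {E G : X.Modules} (ι : G ⟶ CohB1.tensorMod E A) [Mono ι] :
    ∃ (G' : X.Modules) (ι' : G' ⟶ E), Mono ι' ∧ Nonempty (CohB1.tensorMod G' A ≅ G) ∧
      Nonempty (G' ≅ CohB1.tensorMod G B) ∧ (IsIso ι' → IsIso ι) := by
  obtain ⟨e⟩ := h
  let Φ := equivOfInv e
  let ι₁ : G ⟶ Φ.functor.obj E := ι
  have hm : Mono ι₁ := ‹Mono ι›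
  refine ⟨Φ.inverse.obj G, Φ.inverse.map ι₁ ≫ (Φ.unitIso.symm.app E).hom, ?_,
    ⟨Φ.counitIso.app G⟩, ⟨Iso.refl _⟩, ?_⟩
  · have : Mono (Φ.inverse.map ι₁) := inferInstance
    exact mono_comp _ _
  · intro hi
    have h2 : IsIso (Φ.inverse.map ι₁) :=
      IsIso.of_isIso_comp_right _ (Φ.unitIso.symm.app E).hom
    exact isIso_of_reflects_iso ι₁ Φ.inverse

theorem isCoh_tensor_right {A F : X.Modules} (hA : PicF.IsInvertible A) (hF : Coh.IsCoh F) :
    Coh.IsCoh (CohB1.tensorMod F A) := Fga.TwistCoh.isCoh_tensor hF hA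

theorem isPure_tensor {A B E : X.Modules} (h : Nonempty (CohB1.tensorMod A B ≅ Coh.structureModule X)) {d : ℕ}
    (hE : IsPure X E d) : IsPure X (CohB1.tensorMod E A) d := by
  intro G ι hι hG h0
  have hB : PicF.IsInvertible B := isInvertible_right h
  obtain ⟨G', ι', hι', ⟨e1⟩, ⟨e2⟩, -⟩ := exists_mono_of_tensor h ι
  have hG' : Coh.IsCoh G' := Sga67.CohBasic.isCoh_of_iso e2.symm (isCoh_tensor_right hB hG)
  have h0' : ¬ IsZero G' := fun hz => h0 (((isZero_tensor_right_iff h G').mpr hz).of_iso e1.symm)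
  rw [← dim_support_iso e1, support_tensor_right h]
  exact hE G' ι' hι' hG' h0'

end equiv

variable (k : Type u) [Field k] {X : Scheme.{u}} [X.Over (Spec (CommRingCat.of k))]
  [IsProper (X ↘ Spec (CommRingCat.of k))]

omit [IsProper (X ↘ Spec (CommRingCat.of k))] in
/-- Hilbert polynomial of `E ⊗ L^j`. -/
theorem isHilbPoly_twist {L F : X.Modules} {P : ℚ[X]} (hP : IsHilbPoly k X L F P) (j : ℕ) :
    IsHilbPoly k X L (twist X L F j) (P.comp (Polynomial.X + C (j : ℚ))) := by
  obtain ⟨e⟩ := twist_swap L F j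
  exact isHilbPoly_iso k e.symm (isHilbPoly_tensorPow k hP j)

theorem exists_isHilbPoly_of_twist {L M F : X.Modules} (h : Nonempty (CohB1.tensorMod L M ≅ Coh.structureModule X))
    (hF : Coh.IsCoh F) {j : ℕ} {P : ℚ[X]} (hP : IsHilbPoly k X L (twist X L F j) P) :
    ∃ Q : ℚ[X], IsHilbPoly k X L F Q ∧ P = Q.comp (Polynomial.X + C (j : ℚ)) := by
  obtain ⟨Q, hQ⟩ := exists_hilbPoly k (isInvertible_left h) hF
  exact ⟨Q, hQ, hilbPoly_unique k hP (isHilbPoly_twist k hQ j)⟩

/-- Twists of semistable modules are semistable. -/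
theorem isSemistable_twist {L M E : X.Modules} (h : Nonempty (CohB1.tensorMod L M ≅ Coh.structureModule X))
    {d : ℕ} (hE : IsSemistable k X L E d) (j : ℕ) : IsSemistable k X L (twist X L E j) d := by
  obtain ⟨hc, h0, hp, hss⟩ := hE
  have hj := exists_inv_tensorPow h j
  have hL : PicF.IsInvertible (CohB1.tensorPow L j) := isInvertible_left hj
  have hB : PicF.IsInvertible (CohB1.tensorPow M j) := isInvertible_right hj
  refine ⟨isCoh_tensor_right hL hc, fun hz => h0 ((isZero_tensor_right_iff hj E).mp hz), isPure_tensor hj hp, ?_⟩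
  intro G ι hι hG hG0 hiso pG pE hpG hpE
  have hιm : Mono (show G ⟶ CohB1.tensorMod E (CohB1.tensorPow L j) from ι) := hι
  obtain ⟨G', ι', hι', ⟨e1⟩, ⟨e2⟩, hi⟩ := exists_mono_of_tensor hj (show G ⟶ CohB1.tensorMod E (CohB1.tensorPow L j) from ι)
  have hG' : Coh.IsCoh G' := Sga67.CohBasic.isCoh_of_iso e2.symm (isCoh_tensor_right hB hG)
  have h0' : ¬ IsZero G' := fun hz => hG0 (((isZero_tensor_right_iff hj G').mpr hz).of_iso e1.symm)
  obtain ⟨qG, hqG, rfl⟩ := exists_isHilbPoly_of_twist k h hG' (isHilbPoly_iso k e1.symm hpG)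
  obtain ⟨qE, hqE, rfl⟩ := exists_isHilbPoly_of_twist k h hc hpE
  rw [redLE_comp_X_add_iff (natDegree_le k (isInvertible_left h) hG' (hp G' ι' hι' hG' h0').le hqG)
    (natDegree_le k (isInvertible_left h) hc (dim_support_eq_of_isPure hc h0 hp).le hqE)]
  exact hss G' ι' hι' hG' h0' (fun hi' => hiso (hi hi')) _ _ hqG hqE

end K847.TwistSS
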