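import Groth.Agent.ShStab.K847.Lin
import Groth.Agent.ShStab.K847.TwistSS
import Groth.Agent.ShStab.K847.CurveVan
import Groth.Agent.S1643
import Groth.Agent.S3224
import Groth.Agent.S0022
import Groth.Agent.VarietyA.AmpleField
import Groth.Agent.Krr.H484.PnFree
import Groth.Agent.FormalB.HHLes
import Groth.Agent.Sga67.SerreVB

/-!
# Cohomology of twists on projective space (namespace `K847.Pn`)

* `finrank_lt`: for `F` coherent, pure of positive dimension on `P^n_k`, `k` infinite, `h^0(F(t)) < h^0(F(t+1))` as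
  soon as the right hand side is nonzero.
* `exists_reg`: the quotients of `O^b` with a given Hilbert polynomial are uniformly regular.
-/

set_option autoImplicit false
universe u
open CategoryTheory CategoryTheory.Limits AlgebraicGeometry TopologicalSpace

namespace K847.Pn

open Groth.Agent Groth.Agent.Fdesc Groth.Agent.Fdesc.LocGen Groth.Agent.Fga.RegSec Groth.Agent.Fga.PicMon ShStab
  K847.StabBasic K847.AssPure K847.CutAlg K847.Cut K847.Lin K847.TwistSS K847.CurveVan Groth.Agent.VarietyB.EulerBinom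
  Groth.Agent.FormalA.HHLin

/-- `O(r)`. -/
noncomputable abbrev O (k : Type u) [Field k] (n : ℕ) (r : ℤ) : (CohB1.ProjSpace n k).Modules :=
  Twist.twistProjSpace n k r

/-- `F(r)`. -/
noncomputable abbrev tw {k : Type u} [Field k] {n : ℕ} (F : (CohB1.ProjSpace n k).Modules) (r : ℤ) :
    (CohB1.ProjSpace n k).Modules := CohB1.tensorMod F (Twist.twistProjSpace n k r)

/-- `φ(r)`. -/
noncomputable abbrev twm {k : Type u} [Field k] {n : ℕ} {F G : (CohB1.ProjSpace n k).Modules} (φ : F ⟶ G) (r : ℤ) :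
    tw F r ⟶ tw G r := (DCoh.tensorRightMod (Twist.twistProjSpace n k r)).map φ

section linalg

variable {k V W Z : Type*} [Field k] [AddCommGroup V] [Module k V] [AddCommGroup W] [Module k W] [AddCommGroup Z]
  [Module k Z]

theorem finrank_lt_of_injective [Module.Finite k W] (f : V →ₗ[k] W) (hf : Function.Injective f)
    (hs : ¬ Function.Surjective f) : Module.finrank k V < Module.finrank k W := by
  have hV : Module.Finite k V := Module.Finite.of_injective f hf
  refine lt_of_le_of_ne (LinearMap.finrank_le_finrank_of_injective hf) fun h => hs ?_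
  exact (LinearMap.injective_iff_surjective_of_finrank_eq_finrank h).mp hf

theorem finrank_le_of_exact [Module.Finite k V] [Module.Finite k W] [Module.Finite k Z] (f : V →ₗ[k] W)
    (g : W →ₗ[k] Z) (h : Function.Exact f g) : Module.finrank k W ≤ Module.finrank k V + Module.finrank k Z := by
  have h1 := LinearMap.finrank_range_add_finrank_ker g
  have h2 : Module.finrank k (LinearMap.ker g) ≤ Module.finrank k V := by
    rw [LinearMap.exact_iff.mp h]
    exact LinearMap.finrank_range_le f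
  have h3 : Module.finrank k (LinearMap.range g) ≤ Module.finrank k Z := Submodule.finrank_le _
  omega

theorem subsingleton_of_exact (f : V →ₗ[k] W) (g : W →ₗ[k] Z) (h : Function.Exact f g) (hV : Subsingleton V)
    (hZ : Subsingleton Z) : Subsingleton W := by
  refine ⟨fun a b => ?_⟩
  have key : ∀ a : W, a = 0 := fun a => by
    obtain ⟨x, rfl⟩ := (h a).mp (Subsingleton.elim _ _)
    rw [Subsingleton.elim x 0, map_zero]
  rw [key a, key b]

theorem exists_ne_zero_of_finrank_ne_zero (h : Module.finrank k V ≠ 0) : ∃ x : V, x ≠ 0 := by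
  by_contra hcon
  push Not at hcon
  have : Subsingleton V := ⟨fun a b => by rw [hcon a, hcon b]⟩
  exact h Module.finrank_zero_of_subsingleton

end linalg

section basic

variable (k : Type u) [Field k] (n : ℕ)

theorem mc_O_mul (a b : ℤ) : mc (O k n a) * mc (O k n b) = mc (O k n (a + b)) := by
  rw [← mc_tensor]
  exact mc_eq (Sga67.SerreVB.nonempty_twist_mul n k a b).some

theorem mc_O_zero : mc (O k n 0) = 1 := mc_eq (Sga67.SerreVB.nonempty_twist_zero n k).some

variable {k n}

theorem mc_tw (F : (CohB1.ProjSpace n k).Modules) (a : ℤ) : mc (tw F a) = mc F * mc (O k n a) := mc_tensor _ _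

theorem tw_tw (F : (CohB1.ProjSpace n k).Modules) (a b : ℤ) : Nonempty (tw (tw F a) b ≅ tw F (a + b)) := by
  rw [← mc_eq_iff, mc_tw, mc_tw, mc_tw, mul_assoc, mc_O_mul]

theorem tw_zero (F : (CohB1.ProjSpace n k).Modules) : Nonempty (tw F 0 ≅ F) := by
  rw [← mc_eq_iff, mc_tw, mc_O_zero, mul_one]

theorem O_inv (a : ℤ) : Nonempty (CohB1.tensorMod (O k n a) (O k n (-a)) ≅ Coh.structureModule (CohB1.ProjSpace n k)) := by
  rw [← mc_eq_iff, mc_tensor, mc_O_mul, add_neg_cancel, mc_O_zero, mc_one]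

theorem tw_congr {F G : (CohB1.ProjSpace n k).Modules} (e : F ≅ G) (a : ℤ) : Nonempty (tw F a ≅ tw G a) :=
  ⟨(DCoh.tensorRightMod (Twist.twistProjSpace n k a)).mapIso e⟩

theorem isPure_tw {F : (CohB1.ProjSpace n k).Modules} {d : ℕ} (h : IsPure _ F d) (a : ℤ) : IsPure _ (tw F a) d :=
  isPure_tensor (O_inv a) h

theorem isCoh_tw {F : (CohB1.ProjSpace n k).Modules} (h : Coh.IsCoh F) (a : ℤ) : Coh.IsCoh (tw F a) :=
  isCoh_tensor_twist k n h a

variable (k n)

theorem isAmple_O_one : CohB1.IsAmple (O k n 1) := VarietyA.AmpleField.isAmple_twistProjSpace n k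

theorem exists_mem_genLocus (x : CohB1.ProjSpace n k) :
    ∃ s : Coh.structureModule (CohB1.ProjSpace n k) ⟶ O k n 1, x ∈ CohB1.genLocus _ s := by
  have h := Krr.H484.PnFree.iSup_genLocus_coordSec n k
  have hx : x ∈ (⊤ : (CohB1.ProjSpace n k).Opens) := trivial
  rw [← h] at hx
  obtain ⟨j, hj⟩ := Opens.mem_iSup.mp hx
  exact ⟨_, hj⟩

end basic

section growth

variable (k : Type u) [Field k] {n : ℕ}

theorem swap_tw (F : (CohB1.ProjSpace n k).Modules) (t : ℤ) :
    Nonempty (CohB1.tensorMod (O k n 1) (tw F t) ≅ tw F (t + 1)) := by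
  rw [← mc_eq_iff, mc_tensor, mc_tw, mc_tw, mul_left_comm, mc_O_mul, add_comm]

/-- **Growth of the number of sections.** -/
theorem finrank_lt [Infinite k] {F : (CohB1.ProjSpace n k).Modules} (hF : Coh.IsCoh F) {e : ℕ}
    (hp : IsPure _ F (e + 1)) (t : ℤ)
    (h : Module.finrank k (Coh.HH (CohB1.ProjSpace n k) (tw F (t + 1)) 0) ≠ 0) :
    Module.finrank k (Coh.HH (CohB1.ProjSpace n k) (tw F t) 0) <
      Module.finrank k (Coh.HH (CohB1.ProjSpace n k) (tw F (t + 1)) 0) := by
  obtain ⟨e1⟩ := swap_tw k F t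
  have e2 := hmapEquiv k (CohB1.ProjSpace n k) e1 0
  rw [← e2.finrank_eq] at h ⊢
  have hW : Coh.IsCoh (tw F t) := isCoh_tw hF t
  have hNW : Coh.IsCoh (CohB1.tensorMod (O k n 1) (tw F t)) := isCoh_tens (isAmple_O_one k n).1 hW
  obtain ⟨x, hx⟩ := exists_ne_zero_of_finrank_ne_zero h
  let b : Coh.structureModule (CohB1.ProjSpace n k) ⟶ CohB1.tensorMod (O k n 1) (tw F t) :=
    homOf (CurvesB.HZero.equivAdd _ x)
  have hbs : sec b ⊤ = CurvesB.HZero.equivAdd _ x := by
    change sec (homOf _) ⊤ = _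
    rw [sec_homOf, res_refl]
  have hb : b ≠ 0 := by
    intro h0
    apply hx
    apply (CurvesB.HZero.equivAdd _).injective
    rw [map_zero, ← hbs, h0]
    rfl
  obtain ⟨s, hs, hns⟩ := exists_not_divisible k (CohB1.ProjSpace n k) (isAmple_O_one k n) (exists_mem_genLocus k n) hW
    (isPure_tw hp t) (isPure_iso e1.symm (isPure_tw hp (t + 1))) b hb
  have hfin : Module.Finite k (Coh.HH (CohB1.ProjSpace n k) (CohB1.tensorMod (O k n 1) (tw F t)) 0) :=
    S0002.result k _ _ hNW 0
  refine finrank_lt_of_injective (HHmap k (mulS s (tw F t)) 0) (HH0_injective k (mulS s (tw F t))) fun hsurj => ?_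
  obtain ⟨y, hy⟩ := hsurj x
  refine hns (homOf (CurvesB.HZero.equivAdd _ y)) (hom_ext_sec ?_)
  rw [sec_comp, sec_homOf, res_refl, hbs, ← hy]
  exact (CurvesB.HZero.equivAdd_map (mulS s (tw F t)) y).symm

end growth

section reg

/-- Uniform regularity of the quotients of a free module with a given Hilbert polynomial. -/
theorem exists_reg (n b : ℕ) (hb : 1 ≤ b) (Q : Polynomial ℚ) : ∃ t₀ : ℤ, ∀ (k : Type u) [Field k]
    (D : (CohB1.ProjSpace n k).Modules) (q : FlatMod.freeMod (CohB1.ProjSpace n k) b ⟶ D), Coh.IsCoh D → Epi q →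
    (∀ t : ℤ, (Curv2.euler k (CohB1.ProjSpace n k) (tw D t) : ℚ) = Q.eval (t : ℚ)) → ∀ t : ℤ, t₀ ≤ t →
      (∀ i : ℕ, 1 ≤ i → Subsingleton (Coh.HH (CohB1.ProjSpace n k) (tw D t) i)) ∧
        Function.Surjective (HHmap k (twm q t) 0) := by
  obtain ⟨m, hm⟩ := S1643.result.{u} n b hb Q
  refine ⟨max m 0, fun k _ D q hD hq hP t ht => ?_⟩
  have hreg := hm k D q hD hq hP
  have hK : Coh.IsCoh (kernel q) := Sga67.CohBasic.isCoh_kernel q (isCoh_free k n b) hD.1
  have hS : (ShortComplex.mk (kernel.ι q) q (kernel.condition q)).ShortExact :=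
    { exact := ShortComplex.exact_kernel q
      mono_f := (inferInstance : Mono (kernel.ι q))
      epi_g := hq }
  have hSt := shortExact_twist k n hS t
  have hKv : ∀ i : ℕ, 1 ≤ i → ∀ r : ℤ, m - i ≤ r → Subsingleton (Coh.HH (CohB1.ProjSpace n k) (tw (kernel q) r) i) := by
    intro i hi r hr
    refine S3224.result k n (kernel q) hK m (fun j hj => ?_) i r hi hr
    by_cases hjn : j ≤ n
    · exact hreg j hj hjn
    · have := (isCoh_tw hK (m - j)).1
      exact S0022.result n k _ j (by omega)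
  constructor
  · intro i hi
    refine subsingleton_of_exact (HHmap k (twm q t) i) (FormalB.HHLes.δ k hSt i)
      (FormalB.HHLes.exact_map_δ k hSt i) ?_ ?_
    · exact Fga.MumInputs.free_vanish k n b i hi t (by omega)
    · exact hKv (i + 1) (by omega) t (by push_cast; omega)
  · intro x
    have h1 : Subsingleton (Coh.HH (CohB1.ProjSpace n k) (tw (kernel q) t) 1) := hKv 1 le_rfl t (by push_cast; omega)
    exact (FormalB.HHLes.exact_map_δ k hSt 0 x).mp (h1.elim _ _)

end reg

section step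

variable (k : Type u) [Field k] {n : ℕ} (S : ShortComplex (CohB1.ProjSpace n k).Modules) (hS : S.ShortExact)

include hS in
/-- Vanishing of the higher cohomology from the quotient. -/
theorem vanish (h1 : Coh.IsCoh S.X₁) (he : ∀ t : ℤ, Nonempty (tw S.X₂ t ≅ tw S.X₁ (t + 1))) (t₀ : ℤ)
    (h : ∀ t : ℤ, t₀ ≤ t → (∀ i : ℕ, 1 ≤ i → Subsingleton (Coh.HH (CohB1.ProjSpace n k) (tw S.X₃ t) i)) ∧
      Function.Surjective (HHmap k (twm S.g t) 0)) :
    ∀ t : ℤ, t₀ ≤ t → ∀ i : ℕ, 1 ≤ i → Subsingleton (Coh.HH (CohB1.ProjSpace n k) (tw S.X₁ t) i) := by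
  obtain ⟨r₀, hr₀⟩ := Fga.MumInputs.serre k n S.X₁ h1
  -- descending induction
  have key : ∀ j : ℕ, ∀ t : ℤ, t₀ ≤ t → r₀ ≤ t + j → ∀ i : ℕ, 1 ≤ i →
      Subsingleton (Coh.HH (CohB1.ProjSpace n k) (tw S.X₁ t) i) := by
    intro j
    induction j with
    | zero => exact fun t _ ht i hi => hr₀ t (by simpa using ht) i hi
    | succ j ih =>
      intro t ht ht' i hi
      have hSt := shortExact_twist k n hS t
      have h2 : Subsingleton (Coh.HH (CohB1.ProjSpace n k) (tw S.X₁ (t + 1)) i) :=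
        ih (t + 1) (by omega) (by push_cast at ht'; omega) i hi
      obtain ⟨e⟩ := he t
      have h3 : Subsingleton (Coh.HH (CohB1.ProjSpace n k) (tw S.X₂ t) i) :=
        (hmapEquiv k _ e i).toEquiv.subsingleton
      obtain ⟨i, rfl⟩ : ∃ i', i = i' + 1 := ⟨i - 1, by omega⟩
      have h4 : ∀ x : Coh.HH (CohB1.ProjSpace n k) (tw S.X₃ t) i, FormalB.HHLes.δ k hSt i x = 0 := by
        intro x
        rcases Nat.eq_zero_or_pos i with rfl | hi0
        · obtain ⟨y, rfl⟩ := (h t ht).2 x
          exact (FormalB.HHLes.exact_map_δ k hSt 0 _).mpr ⟨y, rfl⟩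
        · have := (h t ht).1 i hi0
          exact (congrArg (FormalB.HHLes.δ k hSt i) (Subsingleton.elim x 0)).trans (LinearMap.map_zero _)
      refine ⟨fun a b => ?_⟩
      have key : ∀ a : Coh.HH (CohB1.ProjSpace n k) (tw S.X₁ t) (i + 1), a = 0 := by
        intro a
        obtain ⟨x, hx⟩ := (FormalB.HHLes.exact_δ_map k hSt i a).mp (h3.elim _ _)
        rw [← hx]
        exact h4 x
      rw [key a, key b]
  intro t ht i hi
  exact key (r₀ - t).toNat t ht (by have := Int.self_le_toNat (r₀ - t); omega) i hi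

include hS in
theorem finrank_succ_le (h1 : Coh.IsCoh S.X₁) (h2 : Coh.IsCoh S.X₂) (h3 : Coh.IsCoh S.X₃)
    (he : ∀ t : ℤ, Nonempty (tw S.X₂ t ≅ tw S.X₁ (t + 1))) (t : ℤ) :
    Module.finrank k (Coh.HH (CohB1.ProjSpace n k) (tw S.X₁ (t + 1)) 0) ≤
      Module.finrank k (Coh.HH (CohB1.ProjSpace n k) (tw S.X₁ t) 0) +
        Module.finrank k (Coh.HH (CohB1.ProjSpace n k) (tw S.X₃ t) 0) := by
  obtain ⟨e⟩ := he t
  rw [← (hmapEquiv k _ e 0).finrank_eq]
  have hSt := shortExact_twist k n hS t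
  have f1 : Module.Finite k (Coh.HH (CohB1.ProjSpace n k) (tw S.X₁ t) 0) := S0002.result k _ _ (isCoh_tw h1 t) 0
  have f2 : Module.Finite k (Coh.HH (CohB1.ProjSpace n k) (tw S.X₂ t) 0) := S0002.result k _ _ (isCoh_tw h2 t) 0
  have f3 : Module.Finite k (Coh.HH (CohB1.ProjSpace n k) (tw S.X₃ t) 0) := S0002.result k _ _ (isCoh_tw h3 t) 0
  exact finrank_le_of_exact (HHmap k (twm S.f t) 0) (HHmap k (twm S.g t) 0) (FormalB.HHLes.exact_map_map k hSt 0)

end step

end K847.Pn
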