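import Groth.Agent.ShStab.K847.StabBasic

/-!
# Semistability with respect to powers of the polarisation (namespace `K847.PowSS`)
-/

set_option autoImplicit false
universe u
open CategoryTheory CategoryTheory.Limits AlgebraicGeometry Polynomial

namespace K847.PowSS

open Groth.Agent ShStab StabCat K847.PolyOrd K847.HilbBasic K847.StabBasic

theorem polyLE_comp_of {N : ℕ} (hN : 0 < N) {P Q : ℚ[X]} (h : PolyLE P Q) :
    PolyLE (P.comp (C (N : ℚ) * X)) (Q.comp (C (N : ℚ) * X)) := by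
  obtain ⟨M, hM⟩ := h
  refine ⟨M, fun m hm => ?_⟩
  have h1 := hM (N * m) (hm.trans (Nat.le_mul_of_pos_left m hN))
  simpa using h1

theorem polyLT_comp_of {N : ℕ} (hN : 0 < N) {P Q : ℚ[X]} (h : PolyLT P Q) :
    PolyLT (P.comp (C (N : ℚ) * X)) (Q.comp (C (N : ℚ) * X)) := by
  obtain ⟨M, hM⟩ := h
  refine ⟨M, fun m hm => ?_⟩
  have h1 := hM (N * m) (hm.trans (Nat.le_mul_of_pos_left m hN))
  simpa using h1

theorem polyLE_comp_iff {N : ℕ} (hN : 0 < N) {P Q : ℚ[X]} :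
    PolyLE (P.comp (C (N : ℚ) * X)) (Q.comp (C (N : ℚ) * X)) ↔ PolyLE P Q := by
  refine ⟨fun h => ?_, polyLE_comp_of hN⟩
  by_contra hn
  exact not_polyLT.mpr h (polyLT_comp_of hN (not_polyLE.mp hn))

theorem alpha_comp (N d : ℕ) (P : ℚ[X]) : alpha d (P.comp (C (N : ℚ) * X)) = (N : ℚ) ^ d * alpha d P := by
  unfold alpha
  rw [comp_C_mul_X_coeff]
  ring

theorem redLE_comp_iff {N : ℕ} (hN : 0 < N) (d : ℕ) {P Q : ℚ[X]} :
    RedLE d (P.comp (C (N : ℚ) * X)) (Q.comp (C (N : ℚ) * X)) ↔ RedLE d P Q := by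
  unfold RedLE
  have hNd : (0 : ℚ) < (N : ℚ) ^ d := by positivity
  rw [alpha_comp, alpha_comp, mul_smul, mul_smul, polyLE_smul_iff hNd, ← smul_comp, ← smul_comp, polyLE_comp_iff hN]

theorem redLT_comp_iff {N : ℕ} (hN : 0 < N) (d : ℕ) {P Q : ℚ[X]} :
    RedLT d (P.comp (C (N : ℚ) * X)) (Q.comp (C (N : ℚ) * X)) ↔ RedLT d P Q := by
  rw [← not_redLE, redLE_comp_iff hN, not_redLE]

variable (k : Type u) [Field k] {X : Scheme.{u}} [X.Over (Spec (CommRingCat.of k))]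

theorem isHilbPoly_pow {L F : X.Modules} {P : ℚ[X]} (hP : ShStab.IsHilbPoly k X L F P) (N : ℕ) :
    ShStab.IsHilbPoly k X (CohB1.tensorPow L N) F (P.comp (C (N : ℚ) * Polynomial.X)) := by
  intro m
  obtain ⟨e⟩ : Nonempty (ShStab.twist X (CohB1.tensorPow L N) F m ≅ ShStab.twist X L F (N * m)) := by
    rw [← Fga.PicMon.mc_eq_iff]
    unfold ShStab.twist
    rw [Fga.PicMon.mc_tensor, Fga.PicMon.mc_tensor, Fga.PicMon.mc_tensorPow, Fga.PicMon.mc_tensorPow,
      Fga.PicMon.mc_tensorPow, pow_mul]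
  rw [euler_congr k e, hP (N * m), eval_comp]
  simp

variable [IsProper (X ↘ Spec (CommRingCat.of k))]

theorem isSemistable_pow_iff {L : X.Modules} (hL : CohB1.IsAmple L) {N : ℕ} (hN : 0 < N) (E : X.Modules) (d : ℕ) :
    IsSemistable k X (CohB1.tensorPow L N) E d ↔ IsSemistable k X L E d := by
  unfold IsSemistable
  refine and_congr_right fun hE => and_congr_right fun _ => and_congr_right fun _ => ?_
  constructor
  · intro h F ι hι hF h0 hi pF pE hpF hpE
    exact (redLE_comp_iff hN d).mp (h F ι hι hF h0 hi _ _ (isHilbPoly_pow k hpF N) (isHilbPoly_pow k hpE N))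
  · intro h F ι hι hF h0 hi pF pE hpF hpE
    obtain ⟨qF, hqF⟩ := exists_hilbPoly k hL.1 hF
    obtain ⟨qE, hqE⟩ := exists_hilbPoly k hL.1 hE
    rw [hilbPoly_unique k hpF (isHilbPoly_pow k hqF N), hilbPoly_unique k hpE (isHilbPoly_pow k hqE N)]
    exact (redLE_comp_iff hN d).mpr (h F ι hι hF h0 hi _ _ hqF hqE)

end K847.PowSS
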